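import Mathlib.Algebra.Category.ModuleCat.Ext.HasExt
import Mathlib.Algebra.Homology.DerivedCategory.Ext.ExactSequences
import Mathlib.Algebra.Homology.DerivedCategory.Ext.Linear
import Mathlib.Algebra.Homology.ShortComplex.ModuleCat
import Mathlib.RingTheory.Ideal.Quotient.Operations
import Mathlib.RingTheory.Regular.RegularSequence

/-!
# `Ext` out of the quotients by a regular sequence, when the first `Ext`s are free
-/

set_option autoImplicit false
universe u

open CategoryTheory CategoryTheory.Abelian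

noncomputable section

namespace Groth.Agent.GrBass

variable {A : Type u} [CommRing A]

/-- `Ext^n(A/J, M)`. -/
abbrev ExtQuot (J : Ideal A) (M : ModuleCat.{u} A) (n : ℕ) : Type u :=
  Ext.{u} (ModuleCat.of A (A ⧸ J)) M n

/-- `Ext^n(A/J, M)` vanishes below `l` and is free over `A/J` in degree `j + l` with basis `κ j`. -/
def FreeFrom (J : Ideal A) (M : ModuleCat.{u} A) (κ : ℕ → Type u) (l : ℕ) : Prop :=
  (∀ i < l, Subsingleton (ExtQuot J M i)) ∧
    ∀ j, Nonempty ((κ j →₀ A ⧸ J) ≃ₗ[A] ExtQuot J M (j + l))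

variable {J J' : Ideal A} {x : A}

/-- The quotient sequence `A/J → A/J → A/J'`. -/
def quotSC (hJ' : J' = J ⊔ Ideal.span {x}) : ShortComplex (ModuleCat.{u} A) :=
  ShortComplex.mk (X₁ := ModuleCat.of A (A ⧸ J)) (X₂ := ModuleCat.of A (A ⧸ J)) (X₃ := ModuleCat.of A (A ⧸ J'))
    (x • 𝟙 _) (ModuleCat.ofHom (Submodule.factor (show J ≤ J' by rw [hJ']; exact le_sup_left)))
    (ModuleCat.hom_ext (LinearMap.ext fun z => by
      obtain ⟨a, rfl⟩ := Ideal.Quotient.mk_surjective z
      change Ideal.Quotient.mk J' (x * a) = 0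
      rw [Ideal.Quotient.eq_zero_iff_mem, hJ']
      exact Ideal.mem_sup_right (Ideal.mem_span_singleton'.2 ⟨a, mul_comm _ _⟩)))

theorem quotSC_shortExact (hx : ∀ a, x * a ∈ J → a ∈ J) (hJ' : J' = J ⊔ Ideal.span {x}) :
    (quotSC hJ').ShortExact where
  exact := by
    rw [ShortComplex.moduleCat_exact_iff]
    intro z hz
    obtain ⟨a, rfl⟩ := Ideal.Quotient.mk_surjective (I := J) z
    have ha : a ∈ J ⊔ Ideal.span {x} := hJ' ▸ Ideal.Quotient.eq_zero_iff_mem.1 hz
    obtain ⟨b, hb, c, hc, rfl⟩ := Submodule.mem_sup.1 ha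
    obtain ⟨d, rfl⟩ := Ideal.mem_span_singleton'.1 hc
    refine ⟨Ideal.Quotient.mk J d, ?_⟩
    change Ideal.Quotient.mk J (x * d) = Ideal.Quotient.mk J (b + d * x)
    rw [Ideal.Quotient.eq]
    have h : x * d - (b + d * x) = -b := by ring
    rw [h]
    exact neg_mem hb
  mono_f := (ModuleCat.mono_iff_injective _).2 <| by
    rw [injective_iff_map_eq_zero]
    intro z hz
    obtain ⟨a, rfl⟩ := Ideal.Quotient.mk_surjective (I := J) z
    exact Ideal.Quotient.eq_zero_iff_mem.2 (hx a (Ideal.Quotient.eq_zero_iff_mem.1 hz))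
  epi_g := (ModuleCat.epi_iff_surjective _).2
    (Submodule.factor_surjective (show J ≤ J' by rw [hJ']; exact le_sup_left))

/-- Raise a free-ness statement along one regular element. -/
theorem FreeFrom.step {M : ModuleCat.{u} A} {κ : ℕ → Type u} {l : ℕ} (h : FreeFrom J M κ l)
    (hx : ∀ a, x * a ∈ J → a ∈ J) (hJ' : J' = J ⊔ Ideal.span {x}) : FreeFrom J' M κ (l + 1) := by
  have hS := quotSC_shortExact hx hJ'
  have hpre : ∀ (n : ℕ) (e : ExtQuot J M n),
      (Ext.mk₀ (quotSC hJ').f).comp e (zero_add n) = x • e := fun n e => by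
    change (Ext.mk₀ (x • 𝟙 _)).comp e (zero_add n) = x • e
    rw [Ext.mk₀_smul, Ext.smul_comp, Ext.mk₀_id_comp]
  have hxinj : ∀ (n : ℕ) (e : ExtQuot J M n), x • e = 0 → e = 0 := by
    intro n e he
    by_cases hn : n < l
    · have := h.1 n hn; exact Subsingleton.elim _ _
    · obtain ⟨j, rfl⟩ : ∃ j, n = j + l := ⟨n - l, by omega⟩
      obtain ⟨φ⟩ := h.2 j
      obtain ⟨c, rfl⟩ := φ.surjective e
      rw [← map_smul, LinearEquiv.map_eq_zero_iff] at he
      rw [LinearEquiv.map_eq_zero_iff]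
      refine Finsupp.ext fun i => ?_
      obtain ⟨a, ha⟩ := Ideal.Quotient.mk_surjective (c i)
      have h1 := DFunLike.congr_fun he i
      rw [Finsupp.smul_apply, ← ha] at h1
      rw [← ha]
      exact Ideal.Quotient.eq_zero_iff_mem.2 (hx a (Ideal.Quotient.eq_zero_iff_mem.1 h1))
  have hδker : ∀ (n : ℕ) (e : ExtQuot J M n),
      hS.extClass.comp e (add_comm 1 n) = 0 ↔ ∃ e', e = x • e' := fun n e => by
    constructor
    · intro he
      obtain ⟨e', he'⟩ := Ext.contravariant_sequence_exact₁ hS M e (add_comm 1 n) he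
      exact ⟨e', he'.symm.trans (hpre n e')⟩
    · rintro ⟨e', rfl⟩
      rw [← hpre]
      exact hS.extClass_comp_assoc _ (h := add_comm 1 n)
  have hδsurj : ∀ (n : ℕ) (e : ExtQuot J' M (n + 1)),
      ∃ e' : ExtQuot J M n, hS.extClass.comp e' (add_comm 1 n) = e := fun n e => by
    refine Ext.contravariant_sequence_exact₃ hS M e (hxinj _ _ ?_) (add_comm 1 n)
    rw [← hpre, Ext.mk₀_comp_mk₀_assoc, (quotSC hJ').zero, Ext.mk₀_zero]
    simp
    rfl
  refine ⟨fun i hi => ?_, fun j => ?_⟩
  · rcases i with - | i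
    · refine subsingleton_of_forall_eq 0 fun e => ?_
      obtain ⟨φ, rfl⟩ := (Ext.mk₀_bijective _ _).2 e
      have h1 : Ext.mk₀ ((quotSC hJ').g ≫ φ) = 0 := hxinj 0 _ (by
        rw [← hpre, Ext.mk₀_comp_mk₀, ← Category.assoc, (quotSC hJ').zero, Limits.zero_comp]
        exact Ext.mk₀_zero _ _)
      rw [Ext.mk₀_eq_zero_iff] at h1
      have : Epi (quotSC hJ').g := hS.epi_g
      rw [Ext.mk₀_eq_zero_iff]
      exact (cancel_epi (quotSC hJ').g).1 (h1.trans Limits.comp_zero.symm)
    · refine subsingleton_of_forall_eq 0 fun e => ?_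
      obtain ⟨e', rfl⟩ := hδsurj i e
      have := h.1 i (by omega)
      rw [Subsingleton.elim e' 0]
      exact Ext.comp_zero _ _ _ _ _
  · obtain ⟨φ⟩ := h.2 j
    let δ : ExtQuot J M (j + l) →ₗ[A] ExtQuot J' M (j + (l + 1)) :=
      { toFun := fun e => hS.extClass.comp e (show 1 + (j + l) = j + (l + 1) by omega)
        map_add' := fun a b => Ext.comp_add ..
        map_smul' := fun a b => Ext.comp_smul .. }
    let π : (κ j →₀ A ⧸ J) →ₗ[A] (κ j →₀ A ⧸ J') :=
      Finsupp.mapRange.linearMap (Submodule.factor (show J ≤ J' by rw [hJ']; exact le_sup_left))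
    have hδs : Function.Surjective (δ ∘ₗ φ.toLinearMap) := fun e => by
      obtain ⟨e', he'⟩ := hδsurj (j + l) e
      refine ⟨φ.symm e', ?_⟩
      rw [LinearMap.comp_apply, LinearEquiv.coe_coe, φ.apply_symm_apply]
      exact he'
    have hπs : Function.Surjective π :=
      Finsupp.mapRange_surjective _ (map_zero _) (Submodule.factor_surjective _)
    have hker : LinearMap.ker π = LinearMap.ker (δ ∘ₗ φ.toLinearMap) := by
      ext c
      rw [LinearMap.mem_ker, LinearMap.mem_ker, LinearMap.comp_apply]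
      change π c = 0 ↔ hS.extClass.comp (φ c) (show 1 + (j + l) = j + (l + 1) by omega) = 0
      refine Iff.trans ?_ (hδker (j + l) (φ c)).symm
      constructor
      · intro hc
        classical
        have hi : ∀ i, ∃ d, c i = x • d := fun i => by
          obtain ⟨a, ha⟩ := Ideal.Quotient.mk_surjective (c i)
          have h1 := DFunLike.congr_fun hc i
          rw [Finsupp.mapRange.linearMap_apply, Finsupp.mapRange_apply, ← ha] at h1
          obtain ⟨b, hb⟩ := (ShortComplex.moduleCat_exact_iff _).1 hS.exact (Ideal.Quotient.mk J a) h1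
          exact ⟨b, ha.symm.trans hb.symm⟩
        choose d hd using hi
        refine ⟨φ (Finsupp.onFinset c.support (fun i => if i ∈ c.support then d i else 0)
          fun i hi => by by_contra hh; simp [hh] at hi), ?_⟩
        rw [← map_smul]
        congr 1
        refine Finsupp.ext fun i => ?_
        rw [Finsupp.smul_apply, Finsupp.onFinset_apply]
        split_ifs with h
        · exact hd i
        · rw [smul_zero, Finsupp.notMem_support_iff.1 h]
      · rintro ⟨e', he'⟩
        obtain ⟨d, rfl⟩ := φ.surjective e'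
        rw [← map_smul] at he'
        rw [φ.injective he', map_smul]
        refine Finsupp.ext fun i => ?_
        obtain ⟨a, ha⟩ := Ideal.Quotient.mk_surjective (π d i)
        rw [Finsupp.smul_apply, ← ha]
        change Ideal.Quotient.mk J' (x * a) = 0
        rw [Ideal.Quotient.eq_zero_iff_mem, hJ']
        exact Ideal.mem_sup_right (Ideal.mem_span_singleton'.2 ⟨a, mul_comm _ _⟩)
    exact ⟨((LinearMap.quotKerEquivOfSurjective π hπs).symm.trans (Submodule.quotEquivOfEq _ _ hker)).trans
      (LinearMap.quotKerEquivOfSurjective _ hδs)⟩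

/-- Iterate along a sequence. -/
theorem FreeFrom.chain {M : ModuleCat.{u} A} {κ : ℕ → Type u} (h : FreeFrom J M κ 0)
    {d : ℕ} (y : Fin d → A)
    (hy : ∀ (i : Fin d) a, y i * a ∈ J ⊔ Ideal.span (y '' {k | k < i}) →
      a ∈ J ⊔ Ideal.span (y '' {k | k < i})) :
    FreeFrom (J ⊔ Ideal.span (Set.range y)) M κ d := by
  suffices ∀ l ≤ d, FreeFrom (J ⊔ Ideal.span (y '' {k | (k : ℕ) < l})) M κ l by
    have h1 := this d le_rfl
    rwa [show {k : Fin d | (k : ℕ) < d} = Set.univ from Set.eq_univ_of_forall fun k => k.2,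
      Set.image_univ] at h1
  intro l hl
  induction l with
  | zero =>
    rwa [show {k : Fin d | (k : ℕ) < 0} = ∅ from Set.eq_empty_of_forall_notMem fun k => Nat.not_lt_zero _,
      Set.image_empty, Ideal.span_empty, sup_bot_eq]
  | succ l ih =>
    refine (ih (by omega)).step (x := y ⟨l, by omega⟩) (hy ⟨l, by omega⟩) ?_
    rw [sup_assoc, ← Ideal.span_union]
    congr 2
    ext z
    simp only [Set.mem_image, Set.mem_ofPred_eq, Set.mem_union, Set.mem_singleton_iff]
    constructor
    · rintro ⟨k, hk, rfl⟩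
      rcases Nat.lt_succ_iff_lt_or_eq.1 hk with hk | hk
      · exact Or.inl ⟨k, hk, rfl⟩
      · exact Or.inr (congrArg y (Fin.ext hk))
    · rintro (⟨k, hk, rfl⟩ | rfl)
      · exact ⟨k, Nat.lt_succ_of_lt hk, rfl⟩
      · exact ⟨⟨l, by omega⟩, Nat.lt_succ_self l, rfl⟩

end Groth.Agent.GrBass
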