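import Groth.Agent.GrLC.Basic
import Mathlib.RingTheory.Localization.AtPrime.Basic
import Mathlib.RingTheory.Ideal.Quotient.Operations
import Mathlib.LinearAlgebra.Finsupp.LinearCombination
import Mathlib.Order.Zorn

/-!
# Graded modules are free after inverting the homogeneous elements outside a homogeneous ideal
-/

set_option autoImplicit false
set_option linter.unusedSectionVars false
universe u

open DirectSum

noncomputable section

namespace Groth.Agent.GrBass

open _root_.Groth.Agent.GrLC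

variable {ι : Type} [AddCommGroup ι] [DecidableEq ι]
variable {R : Type u} [CommRing R] (𝒜 : ι → AddSubgroup R) [GradedRing 𝒜]
variable (P : Ideal R)

/-- A graded module killed by `P` has a homogeneous family independent modulo `P` spanning it up to
homogeneous multipliers outside `P`. -/
theorem exists_homogeneous_free {M : Type u} [AddCommGroup M] [Module R M] (ℳ : ι → AddSubgroup M)
    [DirectSum.Decomposition ℳ] [SetLike.GradedSMul 𝒜 ℳ] (hP1 : (1 : R) ∉ P)
    (hPM : ∀ r ∈ P, ∀ m : M, r • m = 0) :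
    ∃ (κ : Type u) (e : κ → M), (∀ i, ∃ g, e i ∈ ℳ g) ∧
      (∀ c : κ →₀ R, Finsupp.linearCombination R e c = 0 → ∀ i, c i ∈ P) ∧
      ∀ g, ∀ m ∈ ℳ g, ∃ h, ∃ a ∈ 𝒜 h, a ∉ P ∧ a • m ∈ Submodule.span R (Set.range e) := by
  classical
  let S : Set (Set M) := {s | (∀ x ∈ s, ∃ g, x ∈ ℳ g) ∧
    ∀ c : M →₀ R, ↑c.support ⊆ s → Finsupp.linearCombination R id c = 0 → ∀ i, c i ∈ P}
  obtain ⟨s, hs, hmax⟩ := zorn_subset S fun C hC hchain => by
    rcases C.eq_empty_or_nonempty with rfl | hne
    · refine ⟨∅, ⟨fun x hx => hx.elim, fun c hc _ i => ?_⟩, fun t ht => ht.elim⟩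
      rw [Finsupp.notMem_support_iff.1 fun h => hc h]
      exact zero_mem P
    refine ⟨⋃₀ C, ⟨fun x ⟨t, ht, hxt⟩ => (hC ht).1 x hxt, fun c hc hc0 => ?_⟩,
      fun t ht => Set.subset_sUnion_of_mem ht⟩
    obtain ⟨t, ht, hct⟩ := DirectedOn.exists_mem_subset_of_finset_subset_biUnion (f := fun t : Set M => t)
      hne hchain.directedOn (s := c.support) (by rwa [← Set.sUnion_eq_biUnion])
    exact (hC ht).2 c hct hc0
  refine ⟨s, fun x => (x : M), fun x => hs.1 x x.2, fun c hc i => ?_, fun g m hm => ?_⟩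
  · have h1 := hs.2 (c.mapDomain Subtype.val) (fun x hx => ?_) ?_ i
    · rwa [Finsupp.mapDomain_apply Subtype.val_injective] at h1
    · obtain ⟨y, -, rfl⟩ := Finset.mem_image.1 (Finsupp.mapDomain_support hx)
      exact y.2
    · rw [Finsupp.linearCombination_mapDomain]
      exact hc
  rw [Subtype.range_coe]
  by_cases hms : m ∈ s
  · exact ⟨0, 1, SetLike.one_mem_graded 𝒜, hP1, by
      rw [one_smul]; exact Submodule.subset_span hms⟩
  have hins : insert m s ∉ S := fun h => hms (hmax h (Set.subset_insert m s) (Set.mem_insert m s))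
  obtain ⟨c, hcs, hc0, i₀, hi₀⟩ : ∃ c : M →₀ R, ↑c.support ⊆ insert m s ∧
      Finsupp.linearCombination R id c = 0 ∧ ∃ i, c i ∉ P := by
    by_contra hh
    push Not at hh
    exact hins ⟨fun x hx => by
      rcases Set.mem_insert_iff.1 hx with rfl | hx
      exacts [⟨g, hm⟩, hs.1 x hx], hh⟩
  have hrest : ↑(c.erase m).support ⊆ s := fun x hx => by
    rw [Finsupp.support_erase, Finset.coe_erase] at hx
    exact (hcs hx.1).resolve_left hx.2
  have hsplit : c m • m + Finsupp.linearCombination R id (c.erase m) = 0 := by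
    conv_rhs => rw [← hc0, ← Finsupp.single_add_erase m c, map_add, Finsupp.linearCombination_single]
    rfl
  by_cases hcm : c m ∈ P
  · refine absurd ?_ hi₀
    rw [hPM _ hcm, zero_add] at hsplit
    rcases eq_or_ne i₀ m with rfl | hne
    · exact hcm
    · have := hs.2 _ hrest hsplit i₀
      rwa [Finsupp.erase_ne hne] at this
  · obtain ⟨d, hd⟩ : ∃ d, cpt 𝒜 d (c m) ∉ P := by
      by_contra hh
      push Not at hh
      exact hcm (by rw [← sum_cpt 𝒜 (c m)]; exact sum_mem fun d _ => hh d)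
    refine ⟨d, _, cpt_mem 𝒜 d (c m), hd, ?_⟩
    have h2 : cpt ℳ (d + g) (c m • m) + cpt ℳ (d + g) (Finsupp.linearCombination R id (c.erase m)) = 0 := by
      rw [← map_add, hsplit, map_zero]
    rw [cpt_smul_right (𝒜 := 𝒜) ℳ hm] at h2
    rw [eq_neg_of_add_eq_zero_left h2, neg_mem_iff, Finsupp.linearCombination_apply, map_finsuppSum]
    refine Submodule.sum_mem _ fun x hx => ?_
    obtain ⟨gx, hgx⟩ := hs.1 x (hrest hx)
    simp only [id_eq]
    rw [cpt_smul_right' (𝒜 := 𝒜) ℳ hgx]
    exact Submodule.smul_mem _ _ (Submodule.subset_span (hrest hx))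

/-- The localization of such a module is free. -/
theorem exists_localization_equiv [P.IsPrime] {M : Type u} [AddCommGroup M] [Module R M]
    (ℳ : ι → AddSubgroup M) [DirectSum.Decomposition ℳ] [SetLike.GradedSMul 𝒜 ℳ]
    (hPM : ∀ r ∈ P, ∀ m : M, r • m = 0) {κ : Type u} {e : κ → M}
    (hindep : ∀ c : κ →₀ R, Finsupp.linearCombination R e c = 0 → ∀ i, c i ∈ P)
    (hspan : ∀ g, ∀ m ∈ ℳ g, ∃ h, ∃ a ∈ 𝒜 h, a ∉ P ∧ a • m ∈ Submodule.span R (Set.range e))
    (q : Ideal R) [q.IsPrime] (hPq : P ≤ q) (hq : ∀ g, ∀ a ∈ 𝒜 g, a ∈ q → a ∈ P)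
    {V : Type u} [AddCommGroup V] [Module (Localization.AtPrime q) V] (f : M →+ V)
    (hf : ∀ r m, f (r • m) = algebraMap R (Localization.AtPrime q) r • f m)
    (hsurj : ∀ y, ∃ m, ∃ s ∈ q.primeCompl, algebraMap R (Localization.AtPrime q) s • y = f m)
    (hker : ∀ m, f m = 0 → ∃ s ∈ q.primeCompl, s • m = 0) :
    Nonempty ((κ →₀ (Localization.AtPrime q) ⧸ P.map (algebraMap R (Localization.AtPrime q))) ≃ₗ[
      Localization.AtPrime q] V) := by
  classical
  let A := Localization.AtPrime q
  let PA : Ideal A := P.map (algebraMap R A)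
  have hu : ∀ s ∈ q.primeCompl, IsUnit (algebraMap R A s) := fun s hs =>
    IsLocalization.map_units A (⟨s, hs⟩ : q.primeCompl)
  have hkill : ∀ y : V, ∀ a ∈ PA, a • y = 0 := by
    intro y a ha
    obtain ⟨⟨⟨p, hp⟩, t⟩, hpt⟩ := (IsLocalization.mem_map_algebraMap_iff q.primeCompl A).1 ha
    obtain ⟨m, s, hs, hm⟩ := hsurj y
    apply ((hu t t.2).mul (hu s hs)).smul_eq_zero.1
    change (_ * _) • a • y = 0
    rw [smul_smul, show algebraMap R A t * algebraMap R A s * a =
      algebraMap R A p * algebraMap R A s by rw [← hpt]; ring, mul_smul, hm, ← hf, hPM p hp, map_zero]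
  let gen : κ → (A ⧸ PA →ₗ[A] V) := fun i =>
    Submodule.liftQ PA (LinearMap.toSpanSingleton A V (f (e i))) fun a ha => hkill _ a ha
  let Ψ : (κ →₀ A ⧸ PA) →ₗ[A] V := Finsupp.lsum ℕ gen
  have hΨ : ∀ i a, Ψ (Finsupp.single i (Ideal.Quotient.mk PA a)) = a • f (e i) := fun i a => by
    rw [Finsupp.lsum_single]; rfl
  let F : (κ →₀ R) →+ (κ →₀ A ⧸ PA) :=
    Finsupp.mapRange.addMonoidHom ((Ideal.Quotient.mk PA).comp (algebraMap R A)).toAddMonoidHom
  have hΨF : ∀ c, Ψ (F c) = f (Finsupp.linearCombination R e c) := fun c => by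
    induction c using Finsupp.induction_linear with
    | zero => simp
    | add a b ha hb => simp only [map_add, ha, hb]
    | single i r =>
      rw [Finsupp.linearCombination_single, hf]
      exact (congrArg Ψ (Finsupp.mapRange_single (hf := map_zero _))).trans (hΨ i _)
  refine ⟨LinearEquiv.ofBijective Ψ ⟨?_, fun y => ?_⟩⟩
  · rw [injective_iff_map_eq_zero]
    intro c hc
    obtain ⟨s, hs, c', hc'⟩ : ∃ s ∈ q.primeCompl, ∃ c', F c' = algebraMap R A s • c := by
      clear hc
      induction c using Finsupp.induction_linear with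
      | zero => exact ⟨1, one_mem _, 0, by simp⟩
      | add a b ha hb =>
        obtain ⟨s, hs, a', ha'⟩ := ha
        obtain ⟨t, ht, b', hb'⟩ := hb
        refine ⟨s * t, mul_mem hs ht, t • a' + s • b', ?_⟩
        have hsm : ∀ (r : R) (c : κ →₀ R), F (r • c) = algebraMap R A r • F c := fun r c => by
          ext i
          simp only [F, Finsupp.mapRange.addMonoidHom_apply, Finsupp.mapRange_apply, Finsupp.smul_apply,
            smul_eq_mul, RingHom.toAddMonoidHom_eq_coe, AddMonoidHom.coe_coe, RingHom.coe_comp,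
            Function.comp_apply, map_mul]
          exact (Algebra.smul_def (algebraMap R A r) _).symm
        rw [map_add, hsm, hsm, ha', hb', smul_add, smul_smul, smul_smul, map_mul, mul_comm]
      | single i x =>
        obtain ⟨a, rfl⟩ := Ideal.Quotient.mk_surjective x
        obtain ⟨⟨r, t⟩, hrt⟩ := IsLocalization.surj q.primeCompl a
        refine ⟨t, t.2, Finsupp.single i r, ?_⟩
        rw [Finsupp.smul_single]
        refine (Finsupp.mapRange_single (hf := map_zero _)).trans ?_
        congr 1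
        change Ideal.Quotient.mk PA (algebraMap R A r) = Ideal.Quotient.mk PA (algebraMap R A t * a)
        rw [← hrt, mul_comm]
    have h0 : f (Finsupp.linearCombination R e c') = 0 := by rw [← hΨF, hc', map_smul, hc, smul_zero]
    obtain ⟨s', hs', hs'c⟩ := hker _ h0
    rw [← map_smul] at hs'c
    have hzero : F c' = 0 := by
      refine Finsupp.ext fun i => ?_
      have h1 : s' * c' i ∈ P := hindep _ hs'c i
      have h2 : c' i ∈ P := (‹P.IsPrime›.mem_or_mem h1).resolve_left fun h => hs' (hPq h)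
      exact Ideal.Quotient.eq_zero_iff_mem.2 (Ideal.mem_map_of_mem _ h2)
    rw [hzero] at hc'
    exact (hu s hs).smul_eq_zero.1 hc'.symm
  · obtain ⟨m, s, hs, hm⟩ := hsurj y
    have hrange : ∀ a, (hu s hs).unit⁻¹.1 • algebraMap R A s • a = (a : V) := fun a => by
      rw [smul_smul, (hu s hs).val_inv_mul, one_smul]
    suffices ∀ m, ∃ x, Ψ x = f m by
      obtain ⟨x, hx⟩ := this m
      exact ⟨(hu s hs).unit⁻¹.1 • x, by rw [map_smul, hx, ← hm, hrange]⟩
    clear hm m
    intro m
    induction m using GrLC.homogeneous_induction ℳ with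
    | zero => exact ⟨0, by simp⟩
    | add a b ha hb =>
      obtain ⟨x, hx⟩ := ha
      obtain ⟨x', hx'⟩ := hb
      exact ⟨x + x', by rw [map_add, map_add, hx, hx']⟩
    | hom g m hm =>
      obtain ⟨h, a, ha, haP, ham⟩ := hspan g m hm
      obtain ⟨c, hc⟩ := (Finsupp.mem_span_range_iff_exists_finsupp).1 ham
      have hua := hu a fun haq => haP (hq h a ha haq)
      refine ⟨hua.unit⁻¹.1 • F c, ?_⟩
      rw [map_smul, hΨF, Finsupp.linearCombination_apply, hc, hf, smul_smul, hua.val_inv_mul, one_smul]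

end Groth.Agent.GrBass
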