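import Groth.Agent.GrLC.Basic
import Groth.Agent.RegLoc.Basic
import Mathlib.RingTheory.RegularLocalRing.Polynomial
import Mathlib.RingTheory.Localization.LocalizationLocalization
import Mathlib.LinearAlgebra.FreeModule.PID

/-!
# Regularity of `(R/p*)_p` for a multigraded ring

Inverting the nonzero homogeneous elements of a graded domain gives a localization of a polynomial
ring over a field, hence a regular ring.
-/

set_option autoImplicit false
set_option linter.unusedSectionVars false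
universe u

open DirectSum

noncomputable section

namespace Groth.Agent.GrBass

open _root_.Groth.Agent.GrLC

section Deg

variable {ι : Type} [AddCommGroup ι] [DecidableEq ι]
variable {R : Type u} [CommRing R] (𝒜 : ι → AddSubgroup R) [GradedRing 𝒜]
variable (P : Ideal R) [P.IsPrime]

/-- The nonzero homogeneous elements of `R ⧸ P`. -/
def homSubmonoid : Submonoid (R ⧸ P) where
  carrier := {x | ∃ a, (∃ g, a ∈ 𝒜 g) ∧ a ∉ P ∧ Ideal.Quotient.mk P a = x}
  one_mem' := ⟨1, ⟨0, SetLike.one_mem_graded 𝒜⟩,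
    fun h => ‹P.IsPrime›.ne_top ((Ideal.eq_top_iff_one P).2 h), map_one _⟩
  mul_mem' := by
    rintro _ _ ⟨a, ⟨g, ha⟩, haP, rfl⟩ ⟨b, ⟨h, hb⟩, hbP, rfl⟩
    exact ⟨a * b, ⟨g + h, SetLike.mul_mem_graded ha hb⟩,
      fun hab => (‹P.IsPrime›.mem_or_mem hab).elim haP hbP, map_mul _ _ _⟩

theorem homSubmonoid_le : homSubmonoid 𝒜 P ≤ nonZeroDivisors (R ⧸ P) := by
  rintro _ ⟨a, _, haP, rfl⟩
  exact mem_nonZeroDivisors_of_ne_zero fun h => haP (Ideal.Quotient.eq_zero_iff_mem.1 h)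

/-- The graded fraction ring. -/
abbrev HomLoc : Type u := Localization (homSubmonoid 𝒜 P)

/-- The map into the graded fraction ring. -/
def toHomLoc : R →+* HomLoc 𝒜 P := (algebraMap (R ⧸ P) (HomLoc 𝒜 P)).comp (Ideal.Quotient.mk P)

theorem isDomain_homLoc : IsDomain (HomLoc 𝒜 P) :=
  IsLocalization.isDomain_of_le_nonZeroDivisors (M := homSubmonoid 𝒜 P) _ (homSubmonoid_le 𝒜 P)

theorem isUnit_toHomLoc {a : R} {g : ι} (ha : a ∈ 𝒜 g) (haP : a ∉ P) : IsUnit (toHomLoc 𝒜 P a) :=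
  IsLocalization.map_units (HomLoc 𝒜 P) (⟨_, a, ⟨g, ha⟩, haP, rfl⟩ : homSubmonoid 𝒜 P)

theorem toHomLoc_eq_zero {a : R} : toHomLoc 𝒜 P a = 0 ↔ a ∈ P := by
  rw [toHomLoc, RingHom.comp_apply, ← Ideal.Quotient.eq_zero_iff_mem]
  exact map_eq_zero_iff _ (IsLocalization.injective (HomLoc 𝒜 P) (homSubmonoid_le 𝒜 P))

/-- `z` has degree `g`: it is a quotient of homogeneous elements of degrees differing by `g`. -/
def HasDeg (z : HomLoc 𝒜 P) (g : ι) : Prop :=
  ∃ h a b, a ∈ 𝒜 (h + g) ∧ b ∈ 𝒜 h ∧ b ∉ P ∧ z * toHomLoc 𝒜 P b = toHomLoc 𝒜 P a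

variable {𝒜 P}

theorem hasDeg_toHomLoc {a : R} {g : ι} (ha : a ∈ 𝒜 g) : HasDeg 𝒜 P (toHomLoc 𝒜 P a) g :=
  ⟨0, a, 1, by rwa [zero_add], SetLike.one_mem_graded 𝒜,
    fun h => ‹P.IsPrime›.ne_top ((Ideal.eq_top_iff_one P).2 h), by rw [map_one, mul_one]⟩

theorem HasDeg.mul {z z' : HomLoc 𝒜 P} {g g' : ι} (hz : HasDeg 𝒜 P z g) (hz' : HasDeg 𝒜 P z' g') :
    HasDeg 𝒜 P (z * z') (g + g') := by
  obtain ⟨h, a, b, ha, hb, hbP, e⟩ := hz
  obtain ⟨h', a', b', ha', hb', hbP', e'⟩ := hz'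
  refine ⟨h + h', a * a', b * b', ?_, SetLike.mul_mem_graded hb hb',
    fun hh => (‹P.IsPrime›.mem_or_mem hh).elim hbP hbP', ?_⟩
  · rw [show h + h' + (g + g') = h + g + (h' + g') by abel]
    exact SetLike.mul_mem_graded ha ha'
  · rw [map_mul, map_mul, ← e, ← e']
    ring

theorem hasDeg_zero (g : ι) : HasDeg 𝒜 P 0 g :=
  ⟨0, 0, 1, zero_mem _, SetLike.one_mem_graded 𝒜,
    fun h => ‹P.IsPrime›.ne_top ((Ideal.eq_top_iff_one P).2 h), by rw [zero_mul, map_zero]⟩

theorem hasDeg_one : HasDeg 𝒜 P 1 0 := by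
  have := hasDeg_toHomLoc (P := P) (SetLike.one_mem_graded 𝒜)
  rwa [map_one] at this

theorem HasDeg.neg {z : HomLoc 𝒜 P} {g : ι} (hz : HasDeg 𝒜 P z g) : HasDeg 𝒜 P (-z) g := by
  obtain ⟨h, a, b, ha, hb, hbP, e⟩ := hz
  exact ⟨h, -a, b, neg_mem ha, hb, hbP, by rw [neg_mul, e, map_neg]⟩

theorem HasDeg.add {z z' : HomLoc 𝒜 P} {g : ι} (hz : HasDeg 𝒜 P z g) (hz' : HasDeg 𝒜 P z' g) :
    HasDeg 𝒜 P (z + z') g := by
  obtain ⟨h, a, b, ha, hb, hbP, e⟩ := hz
  obtain ⟨h', a', b', ha', hb', hbP', e'⟩ := hz'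
  refine ⟨h + h', a * b' + a' * b, b * b', add_mem ?_ ?_, SetLike.mul_mem_graded hb hb',
    fun hh => (‹P.IsPrime›.mem_or_mem hh).elim hbP hbP', ?_⟩
  · rw [show h + h' + g = h + g + h' by abel]
    exact SetLike.mul_mem_graded ha hb'
  · rw [show h + h' + g = h' + g + h by abel]
    exact SetLike.mul_mem_graded ha' hb
  · rw [map_add, map_mul, map_mul, map_mul, ← e, ← e']
    ring

theorem HasDeg.exists_inv {z : HomLoc 𝒜 P} {g : ι} (hz : HasDeg 𝒜 P z g) (h0 : z ≠ 0) :
    ∃ w, z * w = 1 ∧ HasDeg 𝒜 P w (-g) := by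
  obtain ⟨h, a, b, ha, hb, hbP, e⟩ := hz
  have hub := isUnit_toHomLoc 𝒜 P hb hbP
  have haP : a ∉ P := fun haP => h0 (by
    rwa [(toHomLoc_eq_zero 𝒜 P).2 haP, hub.mul_left_eq_zero] at e)
  obtain ⟨v, hv⟩ := (isUnit_toHomLoc 𝒜 P ha haP).exists_right_inv
  refine ⟨toHomLoc 𝒜 P b * v, by rw [← mul_assoc, e, hv], h + g, b, a, ?_, ha, haP, ?_⟩
  · rwa [add_neg_cancel_right]
  · rw [mul_assoc, mul_comm v, hv, mul_one]

theorem HasDeg.eq_zero_of_sum (hhom : P.IsHomogeneous 𝒜) {κ : Type*} (s : Finset κ) (z : κ → HomLoc 𝒜 P) (g : κ → ι)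
    (hg : Set.InjOn g s) (hz : ∀ i ∈ s, HasDeg 𝒜 P (z i) (g i)) (hsum : ∑ i ∈ s, z i = 0) :
    ∀ i ∈ s, z i = 0 := by
  classical
  have hden : ∀ t ⊆ s, ∃ H B, B ∈ 𝒜 H ∧ B ∉ P ∧
      ∀ i ∈ t, ∃ a, a ∈ 𝒜 (H + g i) ∧ z i * toHomLoc 𝒜 P B = toHomLoc 𝒜 P a := by
    intro t
    induction t using Finset.induction with
    | empty =>
      exact fun _ => ⟨0, 1, SetLike.one_mem_graded 𝒜,
        fun h => ‹P.IsPrime›.ne_top ((Ideal.eq_top_iff_one P).2 h), fun i hi => by simp at hi⟩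
    | insert j t hj ih =>
      intro hts
      obtain ⟨H, B, hB, hBP, hBt⟩ := ih ((Finset.subset_insert j t).trans hts)
      obtain ⟨h, a, b, ha, hb, hbP, e⟩ := hz j (hts (Finset.mem_insert_self j t))
      refine ⟨H + h, B * b, SetLike.mul_mem_graded hB hb,
        fun hh => (‹P.IsPrime›.mem_or_mem hh).elim hBP hbP, fun i hi => ?_⟩
      rcases Finset.mem_insert.1 hi with rfl | hi
      · refine ⟨B * a, ?_, by rw [map_mul, map_mul, ← e]; ring⟩
        rw [add_assoc]
        exact SetLike.mul_mem_graded hB ha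
      · obtain ⟨a', ha', e'⟩ := hBt i hi
        refine ⟨a' * b, ?_, by rw [map_mul, map_mul, ← e']; ring⟩
        rw [show H + h + g i = H + g i + h by abel]
        exact SetLike.mul_mem_graded ha' hb
  obtain ⟨H, B, hB, hBP, hBs⟩ := hden s subset_rfl
  choose! a ha e using hBs
  have hP : ∑ i ∈ s, a i ∈ P := by
    rw [← toHomLoc_eq_zero 𝒜 P, map_sum, ← Finset.sum_congr rfl e, ← Finset.sum_mul, hsum, zero_mul]
  intro i hi
  rcases em (a i ∈ P) with hai | hai
  · have := e i hi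
    rwa [(toHomLoc_eq_zero 𝒜 P).2 hai, (isUnit_toHomLoc 𝒜 P hB hBP).mul_left_eq_zero] at this
  · refine absurd ?_ hai
    have hc : cpt 𝒜 (H + g i) (∑ j ∈ s, a j) = a i := by
      rw [map_sum, Finset.sum_eq_single i (fun j hj hji => ?_) (fun h => absurd hi h),
        cpt_of_mem 𝒜 (ha i hi)]
      exact cpt_of_mem_ne 𝒜 (ha j hj) fun h => hji (hg hj hi (add_left_cancel h))
    rw [← hc]
    exact hhom (H + g i) hP

end Deg

section Laurent

variable {ι : Type} [AddCommGroup ι] [DecidableEq ι] [Module.Free ℤ ι] [Module.Finite ℤ ι]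
variable {R : Type u} [CommRing R] [IsNoetherianRing R] (𝒜 : ι → AddSubgroup R) [GradedRing 𝒜]
variable (P : Ideal R) [P.IsPrime] (hhom : P.IsHomogeneous 𝒜)

/-- The degree-zero elements of the graded fraction ring. -/
def degZero : Subring (HomLoc 𝒜 P) where
  carrier := {z | HasDeg 𝒜 P z 0}
  one_mem' := hasDeg_one
  zero_mem' := hasDeg_zero 0
  add_mem' h h' := h.add h'
  neg_mem' h := h.neg
  mul_mem' h h' := by simpa using h.mul h'

/-- The degrees of nonzero elements. -/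
def degGroup : AddSubgroup ι where
  carrier := {g | ∃ z : HomLoc 𝒜 P, z ≠ 0 ∧ HasDeg 𝒜 P z g}
  zero_mem' := ⟨1, (isDomain_homLoc 𝒜 P).toNontrivial.exists_pair_ne |>.elim fun x ⟨y, h⟩ h1 =>
    h (by rw [← mul_one x, ← mul_one y, h1, mul_zero, mul_zero]), hasDeg_one⟩
  add_mem' := by
    rintro g h ⟨z, hz, hzg⟩ ⟨w, hw, hwh⟩
    have := isDomain_homLoc 𝒜 P
    exact ⟨z * w, mul_ne_zero hz hw, hzg.mul hwh⟩
  neg_mem' := by
    rintro g ⟨z, hz, hzg⟩
    have := isDomain_homLoc 𝒜 P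
    obtain ⟨w, hzw, hw⟩ := hzg.exists_inv hz
    exact ⟨w, right_ne_zero_of_mul_eq_one hzw, hw⟩

theorem isField_degZero : IsField (degZero 𝒜 P) := by
  have := isDomain_homLoc 𝒜 P
  refine ⟨⟨0, 1, zero_ne_one⟩, mul_comm, fun {z} hz => ?_⟩
  obtain ⟨w, hzw, hw⟩ := (show HasDeg 𝒜 P z.1 0 from z.2).exists_inv fun h => hz (Subtype.ext h)
  exact ⟨⟨w, by rw [neg_zero] at hw; exact hw⟩, Subtype.ext hzw⟩

include hhom in
/-- The graded fraction ring is a localization of a polynomial ring over a field. -/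
theorem exists_polynomial_localization :
    ∃ (K : Subring (HomLoc 𝒜 P)) (r : ℕ) (φ : MvPolynomial (Fin r) K →+* HomLoc 𝒜 P)
      (M : Submonoid (MvPolynomial (Fin r) K)), IsField K ∧
      (letI := φ.toAlgebra; IsLocalization M (HomLoc 𝒜 P)) := by
  classical
  have := isDomain_homLoc 𝒜 P
  obtain ⟨r, γ⟩ := Submodule.basisOfPid (Module.Free.chooseBasis ℤ ι)
    (AddSubgroup.toIntSubmodule (degGroup 𝒜 P))
  choose u hu0 hud using fun l : Fin r => (γ l).2
  have hunit : ∀ l, IsUnit (u l) := fun l => by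
    obtain ⟨w, hw, -⟩ := (hud l).exists_inv (hu0 l)
    exact IsUnit.of_mul_eq_one w hw
  let φ : MvPolynomial (Fin r) (degZero 𝒜 P) →ₐ[degZero 𝒜 P] HomLoc 𝒜 P := MvPolynomial.aeval u
  let deg : (Fin r →₀ ℕ) → ι := fun m => ∑ l, (m l : ℤ) • (γ l : ι)
  have hpow : ∀ (e : Fin r → ℕ), HasDeg 𝒜 P (∏ l, u l ^ e l) (∑ l, (e l : ℤ) • (γ l : ι)) := by
    intro e
    induction (Finset.univ : Finset (Fin r)) using Finset.induction with
    | empty => simpa using hasDeg_one
    | insert j t hj ih =>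
      rw [Finset.prod_insert hj, Finset.sum_insert hj]
      refine HasDeg.mul ?_ ih
      induction e j with
      | zero => simpa using hasDeg_one
      | succ n ihn =>
        rw [pow_succ, Nat.cast_succ, add_smul, one_smul]
        exact ihn.mul (hud j)
  have hdeg : Function.Injective deg := fun m m' h => by
    have h2 : ∑ l, (m l : ℤ) • γ l = ∑ l, (m' l : ℤ) • γ l := Subtype.ext (by
      simp only [Submodule.coe_sum, Submodule.coe_smul]; exact h)
    have := congrArg γ.repr h2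
    simp only [map_sum, map_smul, Module.Basis.repr_self, Finsupp.smul_single', mul_one] at this
    refine Finsupp.ext fun l => ?_
    have := DFunLike.congr_fun this l
    simpa [Finsupp.finsetSum_apply, Finsupp.single_apply] using this
  have hmono : ∀ m (c : degZero 𝒜 P), φ (MvPolynomial.monomial m c) = (c : HomLoc 𝒜 P) * ∏ l, u l ^ m l :=
    fun m c => by
    rw [MvPolynomial.aeval_monomial, Finsupp.prod_fintype _ _ fun l => pow_zero _]
    rfl
  have hinj : Function.Injective φ := by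
    rw [injective_iff_map_eq_zero]
    intro p hp
    rw [MvPolynomial.as_sum p, map_sum] at hp
    have := HasDeg.eq_zero_of_sum hhom p.support
      (fun m => φ (MvPolynomial.monomial m (p.coeff m))) deg hdeg.injOn
      (fun m _ => by
        rw [hmono, ← zero_add (deg m)]
        exact (show HasDeg 𝒜 P (p.coeff m).1 0 from (p.coeff m).2).mul (hpow m)) hp
    refine MvPolynomial.ext _ _ fun m => ?_
    by_contra hm
    rw [MvPolynomial.coeff_zero] at hm
    have h1 := this m (MvPolynomial.mem_support_iff.2 hm)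
    rw [hmono, mul_eq_zero] at h1
    refine h1.elim (fun h1 => hm (Subtype.ext h1)) fun h1 => ?_
    exact (IsUnit.prod_univ_iff.2 fun l => (hunit l).pow (m l)).ne_zero h1
  let M := Submonoid.closure (Set.range (MvPolynomial.X : Fin r → MvPolynomial (Fin r) (degZero 𝒜 P)))
  have hMunit : ∀ m ∈ M, IsUnit (φ m) := fun m hm => by
    induction hm using Submonoid.closure_induction with
    | mem x hx => obtain ⟨l, rfl⟩ := hx; rw [MvPolynomial.aeval_X]; exact hunit l
    | one => rw [map_one]; exact isUnit_one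
    | mul x y _ _ hx hy => rw [map_mul]; exact hx.mul hy
  have hsurj : ∀ z : HomLoc 𝒜 P, ∃ m ∈ M, ∃ p, z * φ m = φ p := by
    have hadd : ∀ z w : HomLoc 𝒜 P, (∃ m ∈ M, ∃ p, z * φ m = φ p) → (∃ m ∈ M, ∃ p, w * φ m = φ p) →
        ∃ m ∈ M, ∃ p, (z + w) * φ m = φ p := by
      rintro z w ⟨m, hm, p, hp⟩ ⟨m', hm', p', hp'⟩
      exact ⟨m * m', mul_mem hm hm', p * m' + p' * m, by
        rw [map_add, map_mul, map_mul, map_mul, ← hp, ← hp']; ring⟩
    have hhomcase : ∀ (z : HomLoc 𝒜 P) (g : ι), HasDeg 𝒜 P z g → ∃ m ∈ M, ∃ p, z * φ m = φ p := by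
      intro z g hz
      rcases eq_or_ne z 0 with rfl | hz0
      · exact ⟨1, one_mem _, 0, by simp⟩
      have hgmem : g ∈ AddSubgroup.toIntSubmodule (degGroup 𝒜 P) := ⟨z, hz0, hz⟩
      let n : Fin r → ℤ := fun l => γ.repr ⟨g, hgmem⟩ l
      have hg : g = ∑ l, n l • (γ l : ι) := by
        have h := congrArg (Submodule.subtype _) (γ.sum_repr ⟨g, hgmem⟩)
        simp only [map_sum, map_smul, Submodule.subtype_apply] at h
        exact h.symm
      let N : Fin r → ℕ := fun l => (n l).natAbs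
      let e : Fin r → ℕ := fun l => (n l + N l).toNat
      have hdege : ∑ l, (e l : ℤ) • (γ l : ι) = g + ∑ l, (N l : ℤ) • (γ l : ι) := by
        rw [hg, ← Finset.sum_add_distrib]
        refine Finset.sum_congr rfl fun l _ => ?_
        rw [← add_smul, Int.toNat_of_nonneg (by simp only [N]; omega)]
      obtain ⟨w, hw, hwd⟩ := (hpow e).exists_inv
        (IsUnit.prod_univ_iff.2 fun l => (hunit l).pow (e l)).ne_zero
      have hc : HasDeg 𝒜 P (z * (∏ l, u l ^ N l) * w) 0 := by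
        have := (hz.mul (hpow N)).mul hwd
        rwa [hdege, add_neg_cancel] at this
      refine ⟨∏ l, MvPolynomial.X l ^ N l,
        prod_mem fun l _ => pow_mem (Submonoid.subset_closure (Set.mem_range_self l)) _,
        MvPolynomial.C ⟨_, hc⟩ * ∏ l, MvPolynomial.X l ^ e l, ?_⟩
      simp only [φ, map_prod, map_pow, map_mul, MvPolynomial.aeval_X, MvPolynomial.aeval_C]
      change _ = z * (∏ l, u l ^ N l) * w * ∏ l, u l ^ e l
      rw [mul_assoc _ w, mul_comm w, hw, mul_one]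
    intro z
    obtain ⟨x, ⟨_, b, ⟨h, hb⟩, hbP, rfl⟩, rfl⟩ := IsLocalization.exists_mk'_eq (homSubmonoid 𝒜 P) z
    obtain ⟨a, rfl⟩ := Ideal.Quotient.mk_surjective x
    induction a using GrLC.homogeneous_induction 𝒜 with
    | zero => exact ⟨1, one_mem _, 0, by simp⟩
    | hom g a ha =>
      refine hhomcase _ (g - h) ⟨h, a, b, by rwa [add_sub_cancel], hb, hbP, ?_⟩
      exact IsLocalization.mk'_spec (HomLoc 𝒜 P) _ _
    | add a a' iha iha' =>
      have hm := hadd _ _ iha iha'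
      rw [IsLocalization.mk'_eq_mul_mk'_one, map_add, map_add, add_mul,
        ← IsLocalization.mk'_eq_mul_mk'_one, ← IsLocalization.mk'_eq_mul_mk'_one]
      exact hm
  refine ⟨degZero 𝒜 P, r, φ.toRingHom, M, isField_degZero 𝒜 P, ?_⟩
  letI := φ.toRingHom.toAlgebra
  exact
    { map_units := fun m => hMunit m.1 m.2
      surj := fun z => by
        obtain ⟨m, hm, p, hp⟩ := hsurj z
        exact ⟨⟨p, m, hm⟩, hp⟩
      exists_of_eq := fun {x y} h => ⟨1, by rw [hinj h]⟩ }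

include hhom in
/-- `(R/P)_q` is regular when `q` contains no homogeneous element outside `P`. -/
theorem isRegularLocalRing_localization_quotient (qb : Ideal (R ⧸ P)) [qb.IsPrime]
    (hq : ∀ g, ∀ a ∈ 𝒜 g, Ideal.Quotient.mk P a ∈ qb → a ∈ P) :
    IsRegularLocalRing (Localization.AtPrime qb) := by
  obtain ⟨K, r, φ, M, hK, hloc⟩ := exists_polynomial_localization 𝒜 P hhom
  letI := hK.toField
  letI := φ.toAlgebra
  have := hloc
  let qL : Ideal (HomLoc 𝒜 P) := qb.map (algebraMap (R ⧸ P) (HomLoc 𝒜 P))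
  have hdisj : Disjoint (homSubmonoid 𝒜 P : Set (R ⧸ P)) (qb : Set (R ⧸ P)) := by
    rw [Set.disjoint_left]
    rintro _ ⟨a, ⟨g, ha⟩, haP, rfl⟩ h
    exact haP (hq g a ha h)
  have hqL : qL.IsPrime :=
    IsLocalization.isPrime_of_isPrime_disjoint (homSubmonoid 𝒜 P) _ _ ‹qb.IsPrime› hdisj
  have hcomap : qL.comap (algebraMap (R ⧸ P) (HomLoc 𝒜 P)) = qb :=
    IsLocalization.under_map_of_isPrime_disjoint (homSubmonoid 𝒜 P) _ ‹_› hdisj
  let T := Localization.AtPrime qL
  have h1 : IsLocalization.AtPrime T (qL.comap (algebraMap (R ⧸ P) (HomLoc 𝒜 P))) :=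
    IsLocalization.isLocalization_isLocalization_atPrime_isLocalization (homSubmonoid 𝒜 P) T qL
  let pT := qL.comap (algebraMap (MvPolynomial (Fin r) K) (HomLoc 𝒜 P))
  have : IsScalarTower (MvPolynomial (Fin r) K) (HomLoc 𝒜 P) T := inferInstance
  have h2 : IsLocalization.AtPrime T pT :=
    IsLocalization.isLocalization_isLocalization_atPrime_isLocalization M T qL
  have : IsRegularRing (MvPolynomial (Fin r) K) := inferInstance
  have hreg : IsRegularLocalRing (Localization.AtPrime pT) := inferInstance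
  have : IsRegularLocalRing T := @IsRegularLocalRing.of_ringEquiv (Localization.AtPrime pT) _ hreg T _
    (IsLocalization.algEquiv pT.primeCompl (Localization.AtPrime pT) T).toRingEquiv
  have : IsLocalization qb.primeCompl T := by
    have e : qb.primeCompl = (qL.comap (algebraMap (R ⧸ P) (HomLoc 𝒜 P))).primeCompl := by
      ext x; simp [Ideal.primeCompl, hcomap]
    rw [e]; exact h1
  exact @IsRegularLocalRing.of_ringEquiv T _ ‹IsRegularLocalRing T› (Localization.AtPrime qb) _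
    (IsLocalization.algEquiv qb.primeCompl T (Localization.AtPrime qb)).toRingEquiv

end Laurent

end Groth.Agent.GrBass
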