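import Groth.Prelude.Def_GrLC2
import Groth.Agent.GrLC.Res
import Groth.Agent.GrLC.Compare
import Groth.Agent.GrBass.Regular
import Groth.Agent.GrBass.Free
import Groth.Agent.GrBass.Chain
import Groth.Agent.GrBass.ExtLoc

/-!
# Bass numbers of a graded module at a prime and at its homogeneous core
-/

set_option autoImplicit false
set_option linter.unusedSectionVars false
universe u

open CategoryTheory CategoryTheory.Abelian DirectSum

noncomputable section

namespace Groth.Agent.GrBass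

open _root_.Groth.Agent.GrLC

section ExtIso

variable {A : Type u} [CommRing A] {X X' Y Y' : ModuleCat.{u} A}

/-- `Ext` is functorial for isomorphisms in both variables. -/
def extIso (eX : X ≅ X') (eY : Y ≅ Y') (n : ℕ) : Ext.{u} X Y n ≃ₗ[A] Ext.{u} X' Y' n where
  toFun e := (Ext.mk₀ eX.inv).comp (e.comp (Ext.mk₀ eY.hom) (add_zero n)) (zero_add n)
  map_add' a b := by rw [Ext.add_comp, Ext.comp_add]
  map_smul' r a := by rw [Ext.smul_comp, Ext.comp_smul]; rfl
  invFun e := (Ext.mk₀ eX.hom).comp (e.comp (Ext.mk₀ eY.inv) (add_zero n)) (zero_add n)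
  left_inv e := by
    simp only [Ext.comp_assoc_of_second_deg_zero, Ext.comp_assoc_of_third_deg_zero, Ext.mk₀_comp_mk₀,
      Iso.hom_inv_id, Ext.mk₀_id_comp, Ext.comp_mk₀_id, Ext.mk₀_comp_mk₀_assoc]
  right_inv e := by
    simp only [Ext.comp_assoc_of_second_deg_zero, Ext.comp_assoc_of_third_deg_zero, Ext.mk₀_comp_mk₀,
      Iso.inv_hom_id, Ext.mk₀_id_comp, Ext.comp_mk₀_id, Ext.mk₀_comp_mk₀_assoc]

end ExtIso

variable {ι : Type} [AddCommGroup ι] [DecidableEq ι]
variable {R : Type u} [CommRing R] [IsNoetherianRing R] (𝒜 : ι → AddSubgroup R) [GradedRing 𝒜]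
variable (P : Ideal R) [P.IsPrime] (hhom : P.IsHomogeneous 𝒜)
variable (M : Type u) [AddCommGroup M] [Module R M] (ℳ : ι → AddSubgroup M) [DirectSum.Decomposition ℳ]
  [SetLike.GradedSMul 𝒜 ℳ]

theorem isHomogeneous_torsionBySet (hhom : P.IsHomogeneous 𝒜) {X : Type u} [AddCommGroup X] [Module R X]
    (𝒳 : ι → AddSubgroup X) [DirectSum.Decomposition 𝒳] [SetLike.GradedSMul 𝒜 𝒳] :
    (Submodule.torsionBySet R X (P : Set R)).IsHomogeneous 𝒳 := by
  rw [isHomogeneous_iff]
  intro m hm g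
  rw [Submodule.mem_torsionBySet_iff] at hm ⊢
  intro r
  change (r : R) • cpt 𝒳 g m = 0
  rw [← sum_cpt 𝒜 (r : R), Finset.sum_smul]
  refine Finset.sum_eq_zero fun d _ => ?_
  have h0 : cpt 𝒜 d (r : R) • m = 0 := hm ⟨_, hhom d r.2⟩
  rw [← cpt_smul_left (𝒜 := 𝒜) 𝒳 (cpt_mem 𝒜 d (r : R)) m g, h0, map_zero]

section Model

variable {M ℳ}
variable (E : _root_.GrLC.StarInjRes 𝒜 ℳ)

/-- Cocycles killed by `P`. -/
def cyc (j : ℕ) : Submodule R (E.X j).carrier :=
  Submodule.torsionBySet R (E.X j).carrier (P : Set R) ⊓ LinearMap.ker (E.d j)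

/-- Coboundaries of elements killed by `P`. -/
def bdy : (j : ℕ) → Submodule R (E.X j).carrier
  | 0 => ⊥
  | j + 1 => (Submodule.torsionBySet R (E.X j).carrier (P : Set R)).map (E.d j)

include hhom in
theorem isHomogeneous_cyc (j : ℕ) : (cyc 𝒜 P E j).IsHomogeneous (E.X j).gr :=
  isHomogeneous_inf _ (isHomogeneous_torsionBySet 𝒜 P hhom _) (isHomogeneous_ker _ (E.d_grHom j))

include hhom in
theorem isHomogeneous_bdy : ∀ j : ℕ, (bdy 𝒜 P E j).IsHomogeneous (E.X j).gr
  | 0 => isHomogeneous_bot _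
  | j + 1 => isHomogeneous_map _ (E.d_grHom j) (isHomogeneous_torsionBySet 𝒜 P hhom _)

/-- A cocycle killed by `P` is a map out of `R/P`. -/
def cycHom (j : ℕ) : cyc 𝒜 P E j →ₗ[R] ((ModuleCat.of R (R ⧸ P)) →ₗ[R] (toAcyclic E).Z j) where
  toFun z := Submodule.liftQ P (LinearMap.toSpanSingleton R _ (⟨z.1, z.2.2⟩ : LinearMap.ker (E.d j)))
    fun r hr => Subtype.ext ((Submodule.mem_torsionBySet_iff _ _).1 z.2.1 ⟨r, hr⟩)
  map_add' a b := Submodule.linearMap_qext _ (LinearMap.ext fun r => by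
    simp only [LinearMap.comp_apply, Submodule.mkQ_apply, LinearMap.add_apply]
    erw [Submodule.liftQ_apply, Submodule.liftQ_apply, Submodule.liftQ_apply]
    rw [LinearMap.toSpanSingleton_apply, LinearMap.toSpanSingleton_apply, LinearMap.toSpanSingleton_apply,
      ← smul_add]
    rfl)
  map_smul' c a := Submodule.linearMap_qext _ (LinearMap.ext fun r => by
    simp only [LinearMap.comp_apply, Submodule.mkQ_apply, LinearMap.smul_apply, RingHom.id_apply]
    erw [Submodule.liftQ_apply, Submodule.liftQ_apply]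
    rw [LinearMap.toSpanSingleton_apply, LinearMap.toSpanSingleton_apply, smul_comm c r]
    rfl)

theorem cycHom_mk (j : ℕ) (z : cyc 𝒜 P E j) (r : R) :
    cycHom 𝒜 P E j z (Ideal.Quotient.mk P r) = (r • (⟨z.1, z.2.2⟩ : LinearMap.ker (E.d j)) : LinearMap.ker (E.d j)) := by
  erw [Submodule.liftQ_apply]
  rfl

theorem cycHom_surjective (j : ℕ) : Function.Surjective (cycHom 𝒜 P E j) := fun φ => by
  refine ⟨⟨(φ (Ideal.Quotient.mk P 1)).1, ⟨(Submodule.mem_torsionBySet_iff _ _).2 fun r => ?_,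
    (φ (Ideal.Quotient.mk P 1)).2⟩⟩, Submodule.linearMap_qext _ (LinearMap.ext fun r => ?_)⟩
  · have h : (r : R) • φ (Ideal.Quotient.mk P 1) = 0 := by
      rw [← map_smul]
      have : (r : R) • Ideal.Quotient.mk P 1 = (0 : R ⧸ P) := by
        change Ideal.Quotient.mk P (r.1 * 1) = 0
        rw [mul_one, Ideal.Quotient.eq_zero_iff_mem]; exact r.2
      rw [show ((r : R) • (Ideal.Quotient.mk P 1 : ModuleCat.of R (R ⧸ P))) = 0 from this, map_zero]
    exact congrArg Subtype.val h
  · rw [LinearMap.comp_apply, LinearMap.comp_apply]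
    refine (cycHom_mk 𝒜 P E j _ r).trans ?_
    change r • φ (Ideal.Quotient.mk P 1) = φ (Ideal.Quotient.mk P r)
    rw [← map_smul]
    congr 1
    change Ideal.Quotient.mk P (r * 1) = _
    rw [mul_one]

include hhom in
theorem acyclic_quot (j p : ℕ) (hp : 1 ≤ p) :
    Subsingleton (Ext.{u} (ModuleCat.of R (R ⧸ P)) ((toAcyclic E).X j) p) := by
  have h : Submodule.IsHomogeneous P 𝒜 := hhom
  letI := quoDec 𝒜 h
  letI := quoGr_gradedSMul (𝒜 := 𝒜) 𝒜 P
  exact ext_subsingleton_of_starInj (E.starInj j) (quoGr 𝒜 P) p hp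

/-- The class map to `Ext^j(R/P, M)`. -/
def extClassMap (j : ℕ) : cyc 𝒜 P E j →ₗ[R] Ext.{u} (ModuleCat.of R (R ⧸ P)) (ModuleCat.of R M) j :=
  (toAcyclic E).κ (ModuleCat.of R (R ⧸ P)) j ∘ₗ cycHom 𝒜 P E j

include hhom in
theorem extClassMap_surjective (j : ℕ) : Function.Surjective (extClassMap 𝒜 P E j) :=
  ((toAcyclic E).κ_surjective (acyclic_quot 𝒜 P hhom E) j).comp (cycHom_surjective 𝒜 P E j)

include hhom in
theorem ker_extClassMap (j : ℕ) :
    LinearMap.ker (extClassMap 𝒜 P E j) = (bdy 𝒜 P E j).comap (cyc 𝒜 P E j).subtype := by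
  ext z
  rw [LinearMap.mem_ker, Submodule.mem_comap, extClassMap, LinearMap.comp_apply]
  rcases j with - | j
  · simp only [bdy, Submodule.mem_bot]
    refine ⟨fun h => ?_, fun h => ?_⟩
    · have h1 : cycHom 𝒜 P E 0 z = 0 := (toAcyclic E).κ_zero_injective (by rw [h, map_zero])
      have h2 := LinearMap.congr_fun h1 (Ideal.Quotient.mk P 1)
      rw [cycHom_mk, one_smul] at h2
      exact congrArg Subtype.val h2
    · rw [show z = 0 from Subtype.ext h, map_zero, map_zero]
  · refine ⟨fun h => ?_, ?_⟩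
    · obtain ⟨ψ, hψ⟩ := (toAcyclic E).κ_eq_zero (acyclic_quot 𝒜 P hhom E) j _ h
      refine ⟨ψ (Ideal.Quotient.mk P 1), (Submodule.mem_torsionBySet_iff _ _).2 fun r => ?_, ?_⟩
      · have hz : (r : R) • (Ideal.Quotient.mk P 1 : ModuleCat.of R (R ⧸ P)) = 0 := by
          change Ideal.Quotient.mk P (r.1 * 1) = 0
          rw [mul_one, Ideal.Quotient.eq_zero_iff_mem]; exact r.2
        exact (map_smul ψ _ _).symm.trans ((congrArg ψ hz).trans (map_zero ψ))
      · have h2 := congrArg Subtype.val (LinearMap.congr_fun hψ (Ideal.Quotient.mk P 1))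
        refine Eq.trans (show E.d j (ψ _) = _ from h2) ?_
        rw [cycHom_mk, one_smul]
        rfl
    · rintro ⟨x, hx, hxz⟩
      let ψ : (ModuleCat.of R (R ⧸ P)) →ₗ[R] (toAcyclic E).X j :=
        Submodule.liftQ P (LinearMap.toSpanSingleton R (E.X j).carrier x)
          fun r hr => (Submodule.mem_torsionBySet_iff _ _).1 hx ⟨r, hr⟩
      have hψ : cycHom 𝒜 P E (j + 1) z = (toAcyclic E).dZ j ∘ₗ ψ :=
        Submodule.linearMap_qext _ (LinearMap.ext fun r => Subtype.ext (by
          have h1 : ψ (Ideal.Quotient.mk P r) = r • x := by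
            erw [Submodule.liftQ_apply]
            rfl
          change (cycHom 𝒜 P E (j + 1) z (Ideal.Quotient.mk P r)).1 = E.d j (ψ (Ideal.Quotient.mk P r))
          rw [h1, cycHom_mk]
          change r • z.1 = E.d j (r • x)
          rw [map_smul, hxz]
          rfl))
      rw [hψ, (toAcyclic E).κ_dZ_comp]

end Model

/-- `A/PA` is the localization of `R/P`. -/
theorem exists_quot_iso (q : Ideal R) [q.IsPrime] :
    Nonempty ((ModuleCat.localizedModuleFunctor.{u} q.primeCompl).obj (ModuleCat.of R (R ⧸ P)) ≅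
      ModuleCat.of (Localization.AtPrime q)
        (Localization.AtPrime q ⧸ P.map (algebraMap R (Localization.AtPrime q)))) := by
  let A := Localization.AtPrime q
  let PA : Ideal A := P.map (algebraMap R A)
  let f : (R ⧸ P) →ₗ[R] A ⧸ PA := Submodule.liftQ P
    ((Ideal.Quotient.mkₐ R PA).toLinearMap ∘ₗ (IsScalarTower.toAlgHom R R A).toLinearMap)
    (fun r hr => by
      change Ideal.Quotient.mk PA (algebraMap R A r) = 0
      exact Ideal.Quotient.eq_zero_iff_mem.2 (Ideal.mem_map_of_mem _ hr))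
  have hf : ∀ r, f (Ideal.Quotient.mk P r) = Ideal.Quotient.mk PA (algebraMap R A r) := fun r => rfl
  have : IsLocalizedModule q.primeCompl f :=
    { map_units := fun s => by
        rw [Module.End.isUnit_iff]
        have hu : IsUnit (Ideal.Quotient.mk PA (algebraMap R A s)) :=
          (IsLocalization.map_units A s).map _
        have hsm' : ∀ x : A ⧸ PA, algebraMap R (Module.End R (A ⧸ PA)) s x =
            Ideal.Quotient.mk PA (algebraMap R A s) * x := fun x => by
          obtain ⟨a, rfl⟩ := Ideal.Quotient.mk_surjective x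
          rw [← map_mul, ← Algebra.smul_def]
          rfl
        refine ⟨fun x y h => hu.mul_left_cancel ?_, fun y => ⟨hu.unit⁻¹.1 * y, ?_⟩⟩
        · rwa [← hsm', ← hsm']
        · rw [hsm', ← mul_assoc, hu.mul_val_inv, one_mul]
      surj := fun y => by
        obtain ⟨a, rfl⟩ := Ideal.Quotient.mk_surjective y
        obtain ⟨⟨r, s⟩, hrs⟩ := IsLocalization.surj q.primeCompl a
        refine ⟨⟨Ideal.Quotient.mk P r, s⟩, ?_⟩
        rw [hf, ← hrs, mul_comm, ← Algebra.smul_def]
        rfl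
      exists_of_eq := fun {x y} h => by
        obtain ⟨x, rfl⟩ := Ideal.Quotient.mk_surjective x
        obtain ⟨y, rfl⟩ := Ideal.Quotient.mk_surjective y
        rw [hf, hf, Ideal.Quotient.eq, ← map_sub,
          IsLocalization.algebraMap_mem_map_algebraMap_iff q.primeCompl] at h
        obtain ⟨m, hm, hmem⟩ := h
        refine ⟨⟨m, hm⟩, ?_⟩
        rw [← sub_eq_zero, ← smul_sub, ← map_sub]
        exact Ideal.Quotient.eq_zero_iff_mem.2 hmem }
  haveI : IsLocalizedModule q.primeCompl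
      (((ModuleCat.of R (R ⧸ P)) : ModuleCat.{u} R).localizedModuleMkLinearMap q.primeCompl) :=
    ModuleCat.localizedModule_isLocalizedModule _ _
  let e := IsLocalizedModule.linearEquiv q.primeCompl
    ((ModuleCat.of R (R ⧸ P)).localizedModuleMkLinearMap q.primeCompl) f
  exact ⟨(e.extendScalarsOfIsLocalization q.primeCompl A).toModuleIso⟩

theorem exists_module_iso (q : Ideal R) [q.IsPrime] :
    Nonempty ((ModuleCat.localizedModuleFunctor.{u} q.primeCompl).obj (ModuleCat.of R M) ≅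
      ModuleCat.of (Localization.AtPrime q) (LocalizedModule q.primeCompl M)) := by
  haveI : IsLocalizedModule q.primeCompl
      (((ModuleCat.of R M) : ModuleCat.{u} R).localizedModuleMkLinearMap q.primeCompl) :=
    ModuleCat.localizedModule_isLocalizedModule _ _
  let e := IsLocalizedModule.linearEquiv q.primeCompl
    ((ModuleCat.of R M).localizedModuleMkLinearMap q.primeCompl) (LocalizedModule.mkLinearMap q.primeCompl M)
  exact ⟨(e.extendScalarsOfIsLocalization q.primeCompl (Localization.AtPrime q)).toModuleIso⟩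

include hhom in
/-- A free family of the graded model of `Ext^j(R/P, M)` is a basis of the localized `Ext^j`. -/
theorem extEquiv_of_family {ℳ : ι → AddSubgroup M} [DirectSum.Decomposition ℳ] [SetLike.GradedSMul 𝒜 ℳ]
    (E : _root_.GrLC.StarInjRes 𝒜 ℳ) (j : ℕ) {κ : Type u}
    (b : κ → cyc 𝒜 P E j ⧸ (bdy 𝒜 P E j).comap (cyc 𝒜 P E j).subtype)
    (hindep : ∀ c : κ →₀ R, Finsupp.linearCombination R b c = 0 → ∀ i, c i ∈ P)
    (hspan : ∀ g, ∀ z : cyc 𝒜 P E j, (z : (E.X j).carrier) ∈ (E.X j).gr g → ∃ h, ∃ a ∈ 𝒜 h, a ∉ P ∧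
      a • Submodule.mkQ ((bdy 𝒜 P E j).comap (cyc 𝒜 P E j).subtype) z ∈ Submodule.span R (Set.range b))
    (q : Ideal R) [q.IsPrime] (hPq : P ≤ q) (hq : ∀ g, ∀ a ∈ 𝒜 g, a ∈ q → a ∈ P) :
    Nonempty ((κ →₀ Localization.AtPrime q ⧸ P.map (algebraMap R (Localization.AtPrime q)))
      ≃ₗ[Localization.AtPrime q] ExtQuot (P.map (algebraMap R (Localization.AtPrime q)))
        (ModuleCat.of (Localization.AtPrime q) (LocalizedModule q.primeCompl M)) j) := by
  let C := cyc 𝒜 P E j
  have hC := isHomogeneous_cyc 𝒜 P hhom E j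
  letI := subDec (E.X j).gr hC
  letI := subGr_gradedSMul (𝒜 := 𝒜) (E.X j).gr C
  let B : Submodule R C := (bdy 𝒜 P E j).comap C.subtype
  have hB : B.IsHomogeneous (subGr (E.X j).gr C) :=
    isHomogeneous_comap _ (isGrHom_subtype _ _) (isHomogeneous_bdy 𝒜 P hhom E j)
  letI := quoDec (subGr (E.X j).gr C) hB
  letI := quoGr_gradedSMul (𝒜 := 𝒜) (subGr (E.X j).gr C) B
  have hkill : ∀ r ∈ P, ∀ m : C ⧸ B, r • m = 0 := fun r hr m => by
    obtain ⟨z, rfl⟩ := B.mkQ_surjective m
    rw [← map_smul, show r • z = 0 from Subtype.ext ((Submodule.mem_torsionBySet_iff _ _).1 z.2.1 ⟨r, hr⟩),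
      map_zero]
  let eq : (C ⧸ B) ≃ₗ[R] Ext.{u} (ModuleCat.of R (R ⧸ P)) (ModuleCat.of R M) j :=
    (Submodule.quotEquivOfEq _ _ (ker_extClassMap 𝒜 P hhom E j).symm).trans
      (LinearMap.quotKerEquivOfSurjective _ (extClassMap_surjective 𝒜 P hhom E j))
  let F := ModuleCat.localizedModuleFunctor.{u} q.primeCompl
  obtain ⟨iT⟩ := exists_quot_iso P q
  obtain ⟨iM⟩ := exists_module_iso M q
  let ψ := extIso iT iM j
  let f : (C ⧸ B) →+ ExtQuot (P.map (algebraMap R (Localization.AtPrime q)))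
      (ModuleCat.of (Localization.AtPrime q) (LocalizedModule q.primeCompl M)) j :=
    ψ.toLinearMap.toAddMonoidHom.comp ((F.mapExtAddHom _ _ j).comp eq.toLinearMap.toAddMonoidHom)
  obtain ⟨hs, hk⟩ := ExtLoc.key R q.primeCompl (ModuleCat.of R M) j (ModuleCat.of R (R ⧸ P))
  refine exists_localization_equiv 𝒜 P (quoGr (subGr (E.X j).gr C) B) hkill hindep (fun g m hm => ?_)
    q hPq hq f (fun r m => ?_) (fun y => ?_) (fun m hm => ?_)
  · obtain ⟨z, hz, rfl⟩ := hm
    exact hspan g z hz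
  · change ψ ((eq (r • m)).mapExactFunctor F) = _
    rw [map_smul eq, ExtLoc.map_smul_ext, ψ.map_smul]
    rfl
  · obtain ⟨e', s, he'⟩ := hs (ψ.symm y)
    refine ⟨eq.symm e', s, s.2, ?_⟩
    change _ = ψ ((eq (eq.symm e')).mapExactFunctor F)
    rw [eq.apply_symm_apply, ← he', ψ.map_smul, ψ.apply_symm_apply]
  · obtain ⟨s, hs'⟩ := hk (eq m) (ψ.injective (hm.trans (map_zero ψ).symm))
    exact ⟨s, s.2, eq.injective (by rw [map_smul, hs', map_zero])⟩

include hhom in
/-- The Bass number at `P` is the size of a free family of the graded model. -/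
theorem bassNum_eq_card_of_family {ℳ : ι → AddSubgroup M} [DirectSum.Decomposition ℳ]
    [SetLike.GradedSMul 𝒜 ℳ] (E : _root_.GrLC.StarInjRes 𝒜 ℳ) (j : ℕ) {κ : Type u}
    (b : κ → cyc 𝒜 P E j ⧸ (bdy 𝒜 P E j).comap (cyc 𝒜 P E j).subtype)
    (hindep : ∀ c : κ →₀ R, Finsupp.linearCombination R b c = 0 → ∀ i, c i ∈ P)
    (hspan : ∀ g, ∀ z : cyc 𝒜 P E j, (z : (E.X j).carrier) ∈ (E.X j).gr g → ∃ h, ∃ a ∈ 𝒜 h, a ∉ P ∧
      a • Submodule.mkQ ((bdy 𝒜 P E j).comap (cyc 𝒜 P E j).subtype) z ∈ Submodule.span R (Set.range b)) :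
    _root_.GrLC.bassNum P M j = ENat.card κ := by
  obtain ⟨φ⟩ := extEquiv_of_family 𝒜 P hhom M E j b hindep hspan P le_rfl fun g a _ ha => ha
  rw [Localization.AtPrime.map_eq_maximalIdeal] at φ
  let A := Localization.AtPrime P
  have hsimple : Module.length A (A ⧸ IsLocalRing.maximalIdeal A) = 1 := by
    rw [Module.length_eq_one_iff, isSimpleModule_iff_quot_maximal]
    exact ⟨_, IsLocalRing.maximalIdeal.isMaximal _, ⟨LinearEquiv.refl _ _⟩⟩
  change Module.length A (ExtQuot (IsLocalRing.maximalIdeal A)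
    (ModuleCat.of A (LocalizedModule P.primeCompl M)) j) = _
  rw [← φ.length_eq, Module.length_finsupp, hsimple, mul_one]

include hhom ℳ in
/-- `Ext^j_{R_q}((R/P)_q, M_q)` is free over `(R/P)_q`, with a basis independent of `q`. -/
theorem exists_freeFrom :
    ∃ κ : ℕ → Type u, ∀ (q : Ideal R) [q.IsPrime], P ≤ q → (∀ g, ∀ a ∈ 𝒜 g, a ∈ q → a ∈ P) →
      FreeFrom (P.map (algebraMap R (Localization.AtPrime q)))
        (ModuleCat.of (Localization.AtPrime q) (LocalizedModule q.primeCompl M)) κ 0 := by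
  obtain ⟨E⟩ := exists_res (𝒜 := 𝒜) ℳ
  have h1 : (1 : R) ∉ P := fun h => ‹P.IsPrime›.ne_top ((Ideal.eq_top_iff_one P).2 h)
  have key : ∀ j, ∃ κ : Type u, ∀ (q : Ideal R) [q.IsPrime], P ≤ q → (∀ g, ∀ a ∈ 𝒜 g, a ∈ q → a ∈ P) →
      Nonempty ((κ →₀ Localization.AtPrime q ⧸ P.map (algebraMap R (Localization.AtPrime q)))
        ≃ₗ[Localization.AtPrime q] ExtQuot (P.map (algebraMap R (Localization.AtPrime q)))
          (ModuleCat.of (Localization.AtPrime q) (LocalizedModule q.primeCompl M)) j) := by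
    intro j
    let C := cyc 𝒜 P E j
    have hC := isHomogeneous_cyc 𝒜 P hhom E j
    letI := subDec (E.X j).gr hC
    letI := subGr_gradedSMul (𝒜 := 𝒜) (E.X j).gr C
    let B : Submodule R C := (bdy 𝒜 P E j).comap C.subtype
    have hB : B.IsHomogeneous (subGr (E.X j).gr C) :=
      isHomogeneous_comap _ (isGrHom_subtype _ _) (isHomogeneous_bdy 𝒜 P hhom E j)
    letI := quoDec (subGr (E.X j).gr C) hB
    letI := quoGr_gradedSMul (𝒜 := 𝒜) (subGr (E.X j).gr C) B
    have hkill : ∀ r ∈ P, ∀ m : C ⧸ B, r • m = 0 := fun r hr m => by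
      obtain ⟨z, rfl⟩ := B.mkQ_surjective m
      rw [← map_smul, show r • z = 0 from Subtype.ext ((Submodule.mem_torsionBySet_iff _ _).1 z.2.1 ⟨r, hr⟩),
        map_zero]
    obtain ⟨κ, b, -, hindep, hspan⟩ :=
      exists_homogeneous_free 𝒜 P (quoGr (subGr (E.X j).gr C) B) h1 hkill
    exact ⟨κ, fun q _ hPq hq => extEquiv_of_family 𝒜 P hhom M E j b hindep
      (fun g z hz => hspan g _ ⟨z, hz, rfl⟩) q hPq hq⟩
  choose κ hκ using key
  exact ⟨κ, fun q _ hPq hq => ⟨fun i hi => absurd hi (Nat.not_lt_zero i), fun j => hκ j q hPq hq⟩⟩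

variable [Module.Free ℤ ι] [Module.Finite ℤ ι]

include hhom in
/-- The image of a system of parameters of `(R/P)_q` in `R_q`. -/
theorem exists_parameters (q : Ideal R) [q.IsPrime] (hPq : P ≤ q)
    (hq : ∀ g, ∀ a ∈ 𝒜 g, a ∈ q → a ∈ P) (d : ℕ) (hd : (q.map (Ideal.Quotient.mk P)).height = d) :
    ∃ x : Fin d → Localization.AtPrime q,
      (∀ (i : Fin d) a, x i * a ∈ P.map (algebraMap R (Localization.AtPrime q)) ⊔ Ideal.span (x '' {k | k < i}) →
        a ∈ P.map (algebraMap R (Localization.AtPrime q)) ⊔ Ideal.span (x '' {k | k < i})) ∧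
      P.map (algebraMap R (Localization.AtPrime q)) ⊔ Ideal.span (Set.range x) =
        IsLocalRing.maximalIdeal (Localization.AtPrime q) := by
  let π := Ideal.Quotient.mk P
  let A := Localization.AtPrime q
  let qb : Ideal (R ⧸ P) := q.map π
  have hqp : qb.comap π = q := by
    rw [Ideal.comap_map_of_surjective _ Ideal.Quotient.mk_surjective, ← RingHom.ker_eq_comap_bot,
      Ideal.mk_ker, sup_eq_left.2 hPq]
  have : qb.IsPrime := Ideal.map_isPrime_of_surjective Ideal.Quotient.mk_surjective (by rwa [Ideal.mk_ker])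
  have hqb : ∀ g, ∀ a ∈ 𝒜 g, π a ∈ qb → a ∈ P := fun g a ha h => hq g a ha (by rw [← hqp]; exact h)
  let T := Localization.AtPrime qb
  have hT : IsRegularLocalRing T := isRegularLocalRing_localization_quotient 𝒜 P hhom qb hqb
  have hM : q.primeCompl.map π = qb.primeCompl := by
    ext b
    constructor
    · rintro ⟨a, ha, rfl⟩ hb
      exact ha (hqp ▸ hb)
    · intro hb
      obtain ⟨a, rfl⟩ := Ideal.Quotient.mk_surjective b
      exact ⟨a, fun ha => hb (Ideal.mem_map_of_mem _ ha), rfl⟩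
  have hle' : q.primeCompl ≤ qb.primeCompl.comap π := by rw [← hM]; exact Submonoid.le_comap_map _
  let g : A →+* T := IsLocalization.map _ π hle'
  have hg : Function.Surjective g := fun z => by
    obtain ⟨⟨b, t⟩, hz⟩ := IsLocalization.surj qb.primeCompl z
    obtain ⟨a, rfl⟩ := Ideal.Quotient.mk_surjective b
    obtain ⟨t', ht', htt⟩ : (t : R ⧸ P) ∈ q.primeCompl.map π := by rw [hM]; exact t.2
    refine ⟨IsLocalization.mk' A a ⟨t', ht'⟩, ?_⟩
    rw [IsLocalization.map_mk', IsLocalization.mk'_eq_iff_eq_mul, ← hz]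
    exact congrArg (fun b => z * algebraMap (R ⧸ P) T b) htt.symm
  have hker : RingHom.ker g = P.map (algebraMap R A) := by
    rw [IsLocalization.ker_map (S := A) T π hM, Ideal.mk_ker]
  have hdim : ringKrullDim T = d := by
    rw [IsLocalization.AtPrime.ringKrullDim_eq_height qb T, hd]
    rfl
  obtain ⟨s, hs, hspan⟩ := Submodule.FG.exists_span_finset_card_eq_spanFinrank
    (IsNoetherian.noetherian (IsLocalRing.maximalIdeal T))
  have hcard : s.card = d := by
    have := hT.spanFinrank_maximalIdeal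
    rw [hdim, ← hs] at this
    exact_mod_cast this
  subst hcard
  let y : Fin s.card → T := fun i => (s.equivFin.symm i : T)
  have hy : Ideal.span (Set.range y) = IsLocalRing.maximalIdeal T := by
    rw [← hspan]
    congr 1
    ext z
    exact ⟨by rintro ⟨i, rfl⟩; exact (s.equivFin.symm i).2, fun hz => ⟨s.equivFin ⟨z, hz⟩, by simp [y]⟩⟩
  have hreg := (RegLoc.isRegular_ofFn (R := T) hdim y hy).toIsWeaklyRegular
  choose x hx using fun i => hg (y i)
  have himg : ∀ U : Set (Fin s.card), Ideal.comap g (Ideal.span (y '' U)) =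
      P.map (algebraMap R A) ⊔ Ideal.span (x '' U) := fun U => by
    have : y '' U = g '' (x '' U) := by rw [Set.image_image]; exact Set.image_congr' fun i => (hx i).symm
    rw [this, ← Ideal.map_span, Ideal.comap_map_of_surjective g hg, ← RingHom.ker_eq_comap_bot, hker,
      sup_comm]
  refine ⟨x, fun i a ha => ?_, ?_⟩
  · rw [← himg] at ha ⊢
    rw [Ideal.mem_comap, map_mul, hx] at ha
    have h := hreg.regular_mod_prev i.1 (by rw [List.length_ofFn]; exact i.2)
    have hset : Ideal.ofList ((List.ofFn y).take i.1) = Ideal.span (y '' {k | k < i}) := by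
      refine congrArg Ideal.span (Set.ext fun z => ?_)
      simp only [Set.mem_ofPred_eq, Set.mem_image, List.mem_take_iff_getElem, List.getElem_ofFn,
        List.length_ofFn]
      constructor
      · rintro ⟨k, hk, rfl⟩
        exact ⟨⟨k, by omega⟩, by simp only [Fin.lt_def]; omega, rfl⟩
      · rintro ⟨k, hk, rfl⟩
        exact ⟨k.1, by simp only [Fin.lt_def] at hk; omega, rfl⟩
    rw [List.getElem_ofFn] at h
    rw [Ideal.mem_comap, ← hset]
    have hsm : ∀ I : Ideal T, I • (⊤ : Submodule T T) = I := fun I => by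
      rw [smul_eq_mul, Ideal.mul_top]
    have := h (a₁ := Submodule.Quotient.mk (g a)) (a₂ := 0) (by
      beta_reduce
      rw [smul_zero, ← Submodule.Quotient.mk_smul, Submodule.Quotient.mk_eq_zero, hsm, hset]
      exact ha)
    rwa [Submodule.Quotient.mk_eq_zero, hsm] at this
  · have h1 := himg Set.univ
    rw [Set.image_univ, Set.image_univ, hy] at h1
    rw [← h1]
    exact IsLocalRing.eq_maximalIdeal (Ideal.comap_isMaximal_of_surjective g hg)

include hhom ℳ in
/-- The Bass numbers at every prime with homogeneous core `P` are those at `P`, shifted. -/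
theorem exists_bassNum_eq :
    ∃ κ : ℕ → Type u, ∀ (q : Ideal R) [q.IsPrime], P ≤ q → (∀ g, ∀ a ∈ 𝒜 g, a ∈ q → a ∈ P) →
      ∀ d : ℕ, (q.map (Ideal.Quotient.mk P)).height = d →
        (∀ i < d, _root_.GrLC.bassNum q M i = 0) ∧
          ∀ j, _root_.GrLC.bassNum q M (j + d) = ENat.card (κ j) := by
  obtain ⟨κ, hκ⟩ := exists_freeFrom 𝒜 P hhom M ℳ
  refine ⟨κ, fun q _ hPq hq d hd => ?_⟩
  obtain ⟨x, hx, hmax⟩ := exists_parameters 𝒜 P hhom q hPq hq d hd
  have h := (hκ q hPq hq).chain x hx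
  rw [hmax] at h
  refine ⟨fun i hi => Module.length_eq_zero_iff.2 (h.1 i hi), fun j => ?_⟩
  obtain ⟨φ⟩ := h.2 j
  let k := Localization.AtPrime q ⧸ IsLocalRing.maximalIdeal (Localization.AtPrime q)
  have hsimple : Module.length (Localization.AtPrime q) k = 1 := by
    rw [Module.length_eq_one_iff, isSimpleModule_iff_quot_maximal]
    exact ⟨_, IsLocalRing.maximalIdeal.isMaximal _, ⟨LinearEquiv.refl _ _⟩⟩
  change Module.length (Localization.AtPrime q)
    (ExtQuot (IsLocalRing.maximalIdeal (Localization.AtPrime q))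
      (ModuleCat.of (Localization.AtPrime q) (LocalizedModule q.primeCompl M)) (j + d)) = _
  rw [← φ.length_eq, Module.length_finsupp, hsimple, mul_one]

include hhom in
theorem height_map_self : (P.map (Ideal.Quotient.mk P)).height = 0 := by
  rw [Ideal.map_quotient_self]
  exact Ideal.height_bot

end Groth.Agent.GrBass
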