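import Groth.Agent.GrBass.Shift
import Groth.Agent.Gor.InjDim
import Groth.Agent.RegLoc.PD

/-!
# Bass numbers detect the injective dimension of an arbitrary module over a Noetherian ring

* `bassNum_eq_zero_iff`: `μ^i(P, M) = 0` iff every class in `Ext^i(R/P, M)` is killed outside `P`.
* `hasInjectiveDimensionLT_of_bassNum`: no finiteness of `M` is needed.
* `bassNum_zero_ne_zero_iff`: `μ^0(P, M) ≠ 0` iff `P` is an associated prime.
-/

set_option autoImplicit false
set_option linter.unusedSectionVars false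
set_option linter.style.haveILetI false
universe u

open CategoryTheory CategoryTheory.Abelian

noncomputable section

namespace Groth.Agent.GrBass.InjDimBass

variable {R : Type u} [CommRing R] [IsNoetherianRing R]
variable (M : Type u) [AddCommGroup M] [Module R M]

/-- `μ^i(P, M) = 0` iff every class of `Ext^i(R/P, M)` is killed by an element outside `P`. -/
theorem bassNum_eq_zero_iff (P : Ideal R) [P.IsPrime] (i : ℕ) :
    _root_.GrLC.bassNum P M i = 0 ↔
      ∀ e : Ext.{u} (ModuleCat.of R (R ⧸ P)) (ModuleCat.of R M) i, ∃ s : P.primeCompl, (s : R) • e = 0 := by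
  let F := ModuleCat.localizedModuleFunctor.{u} P.primeCompl
  obtain ⟨hs, hk⟩ := GrBass.ExtLoc.key R P.primeCompl (ModuleCat.of R M) i (ModuleCat.of R (R ⧸ P))
  obtain ⟨iT⟩ := GrBass.exists_quot_iso P P
  obtain ⟨iP⟩ := GrBass.exists_module_iso M P
  have iK : ModuleCat.of (Localization.AtPrime P) (Localization.AtPrime P ⧸
      P.map (algebraMap R (Localization.AtPrime P))) ≅
        ModuleCat.of (Localization.AtPrime P) (IsLocalRing.ResidueField (Localization.AtPrime P)) :=
    (Submodule.quotEquivOfEq _ _ Localization.AtPrime.map_eq_maximalIdeal).toModuleIso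
  let ψ := GrBass.extIso (iT ≪≫ iK) iP i
  constructor
  · intro h e
    haveI : Subsingleton (Ext.{u} (ModuleCat.of (Localization.AtPrime P)
        (IsLocalRing.ResidueField (Localization.AtPrime P)))
        (ModuleCat.of (Localization.AtPrime P) (LocalizedModule P.primeCompl M)) i) :=
      Module.length_eq_zero_iff.1 h
    exact hk e (ψ.injective (Subsingleton.elim _ _))
  · intro h
    refine Module.length_eq_zero_iff.2 (subsingleton_of_forall_eq 0 fun y => ?_)
    obtain ⟨x, s, hxs⟩ := hs (ψ.symm y)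
    obtain ⟨t, ht⟩ := h x
    have h2 := GrBass.ExtLoc.map_smul_ext R P.primeCompl (t : R) x
    rw [ht, Ext.mapExactFunctor_zero] at h2
    have hx0 : x.mapExactFunctor F = 0 :=
      (IsLocalization.map_units (Localization P.primeCompl) t).smul_eq_zero.mp h2.symm
    rw [hx0] at hxs
    have := congrArg ψ hxs
    rw [map_smul, ψ.apply_symm_apply, map_zero] at this
    exact (IsLocalization.map_units _ s).smul_eq_zero.mp this

/-- Vanishing of all Bass numbers in degrees `≥ i₀` kills `Ext^i(R/I, M)` for `i ≥ i₀`. -/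
theorem subsingleton_ext_of_bassNum (i₀ : ℕ)
    (h : ∀ (P : Ideal R) [P.IsPrime] (i : ℕ), i₀ ≤ i → _root_.GrLC.bassNum P M i = 0) :
    ∀ I : Ideal R, ∀ i, i₀ ≤ i →
      Subsingleton (Ext (ModuleCat.of R (R ⧸ I)) (ModuleCat.of R M) i) := by
  intro I
  induction I using WellFoundedGT.induction with
  | ind I ih =>
    intro i hi
    by_cases htop : I = ⊤
    · subst htop
      have : Limits.IsZero (ModuleCat.of R (R ⧸ (⊤ : Ideal R))) :=
        ModuleCat.isZero_of_subsingleton _
      exact subsingleton_of_forall_eq 0 fun x => by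
        rw [← Ext.mk₀_id_comp x, this.eq_of_src (𝟙 _) 0, Ext.mk₀_zero, Ext.zero_comp]
    by_cases hpr : I.IsPrime
    · refine subsingleton_of_forall_eq 0 fun y => ?_
      obtain ⟨⟨x, hxI⟩, hx⟩ := (bassNum_eq_zero_iff M I i).1 (h I i hi) y
      obtain ⟨f, g, hfg, hS, hfc⟩ := Gor.InjDim.exists_shortExact_colon R I x
      have hker : LinearMap.ker (I.mkQ.comp (LinearMap.mulLeft R x)) = I := by
        ext z
        simp only [LinearMap.mem_ker, LinearMap.comp_apply, LinearMap.mulLeft_apply,
          Submodule.mkQ_apply, Submodule.Quotient.mk_eq_zero]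
        exact ⟨fun hz => (hpr.mem_or_mem hz).resolve_left hxI, fun hz => I.mul_mem_left x hz⟩
      have hlt : I < I ⊔ Ideal.span {x} :=
        lt_of_le_of_ne le_sup_left fun h' => hxI (by
          rw [h']; exact Submodule.mem_sup_right (Ideal.mem_span_singleton_self x))
      let X := ModuleCat.of R (R ⧸ I)
      let e : ModuleCat.of R (R ⧸ LinearMap.ker (I.mkQ.comp (LinearMap.mulLeft R x))) ≅ X :=
        (Submodule.quotEquivOfEq (LinearMap.ker (I.mkQ.comp (LinearMap.mulLeft R x))) I hker).toModuleIso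
      have hfe : ModuleCat.ofHom f = e.hom ≫ (x • 𝟙 X) := by
        refine ModuleCat.hom_ext (Submodule.linearMap_qext _ (LinearMap.ext fun c => ?_))
        change f (Submodule.Quotient.mk c) = x • (Submodule.Quotient.mk c : R ⧸ I)
        rw [hfc]
        rw [← Submodule.Quotient.mk_smul, smul_eq_mul]
      have hfy : (Ext.mk₀ (ModuleCat.ofHom f)).comp y (zero_add i) = 0 := by
        have h0 : (Ext.mk₀ (x • 𝟙 X)).comp y (zero_add i) = 0 := by
          rw [Ext.mk₀_smul, Ext.smul_comp, Ext.mk₀_id_comp]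
          exact hx
        rw [hfe, ← Ext.mk₀_comp_mk₀_assoc, h0, Ext.comp_zero]
      obtain ⟨z, hz⟩ := Ext.contravariant_sequence_exact₂ hS (ModuleCat.of R M) y hfy
      rw [← hz, (ih _ hlt i hi).elim z 0, Ext.comp_zero]
    · obtain ⟨a, ha, b, hb, hab⟩ := Ideal.not_isPrime_iff.mp hpr |>.resolve_left htop
      obtain ⟨f, g, hfg, hS, -⟩ := Gor.InjDim.exists_shortExact_colon R I a
      have hltK : I < LinearMap.ker (I.mkQ.comp (LinearMap.mulLeft R a)) := by
        refine lt_of_le_of_ne (fun z hz => ?_) fun h' => hb ?_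
        · rw [LinearMap.mem_ker, LinearMap.comp_apply, LinearMap.mulLeft_apply, Submodule.mkQ_apply,
            Submodule.Quotient.mk_eq_zero]
          exact I.mul_mem_left a hz
        · rw [h', LinearMap.mem_ker, LinearMap.comp_apply, LinearMap.mulLeft_apply, Submodule.mkQ_apply,
            Submodule.Quotient.mk_eq_zero]
          exact hab
      have hltJ : I < I ⊔ Ideal.span {a} :=
        lt_of_le_of_ne le_sup_left fun h' => ha (by
          rw [h']; exact Submodule.mem_sup_right (Ideal.mem_span_singleton_self a))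
      exact Gor.InjDim.subsingleton_ext_middle hS (ih _ hltK i hi) (ih _ hltJ i hi)

/-- Bass' criterion for the injective dimension, for modules that need not be finite. -/
theorem hasInjectiveDimensionLT_of_bassNum (n : ℕ)
    (h : ∀ (P : Ideal R) [P.IsPrime] (i : ℕ), n + 1 ≤ i → _root_.GrLC.bassNum P M i = 0) :
    HasInjectiveDimensionLT (ModuleCat.of R M) (n + 1) :=
  RegLoc.PD.hasInjectiveDimensionLT_of_forall_cyclic n _ fun I =>
    subsingleton_ext_of_bassNum M (n + 1) h I (n + 1) le_rfl

/-- `μ^0(P, M) ≠ 0` iff `P` is an associated prime of `M`. -/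
theorem bassNum_zero_ne_zero_iff (P : Ideal R) [P.IsPrime] :
    _root_.GrLC.bassNum P M 0 ≠ 0 ↔ P ∈ associatedPrimes R M := by
  rw [Ne, bassNum_eq_zero_iff, AssociatedPrimes.mem_iff, isAssociatedPrime_iff]
  constructor
  · intro h
    push Not at h
    obtain ⟨e, he⟩ := h
    obtain ⟨φ, rfl⟩ := (Ext.mk₀_bijective _ _).2 e
    let x : M := φ.hom (Ideal.Quotient.mk P 1)
    have hφ : ∀ r, φ.hom (Ideal.Quotient.mk P r) = r • x := fun r => by
      rw [show Ideal.Quotient.mk P r = r • Ideal.Quotient.mk P 1 from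
        congrArg (Ideal.Quotient.mk P) (mul_one r).symm, map_smul]
    refine ⟨inferInstance, x, le_antisymm (fun r hr => ?_) fun r hr => ?_⟩
    · rw [Submodule.mem_colon_singleton, Submodule.mem_bot, ← hφ, Ideal.Quotient.eq_zero_iff_mem.2 hr,
        map_zero]
    · rw [Submodule.mem_colon_singleton, Submodule.mem_bot] at hr
      by_contra hrP
      refine he ⟨r, hrP⟩ ?_
      rw [← Ext.mk₀_smul, Ext.mk₀_eq_zero_iff]
      refine ModuleCat.hom_ext (LinearMap.ext fun z => ?_)
      obtain ⟨z, rfl⟩ := Ideal.Quotient.mk_surjective z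
      change r • φ.hom (Ideal.Quotient.mk P z) = 0
      rw [hφ, smul_comm, hr, smul_zero]
  · rintro ⟨-, x, hx⟩ h
    let φ : (R ⧸ P) →ₗ[R] M := Submodule.liftQ P (LinearMap.toSpanSingleton R M x) fun r hr => by
      rw [hx, Submodule.mem_colon_singleton, Submodule.mem_bot] at hr
      exact hr
    obtain ⟨⟨s, hs⟩, hs0⟩ := h (Ext.mk₀ (ModuleCat.ofHom φ))
    rw [← Ext.mk₀_smul, Ext.mk₀_eq_zero_iff] at hs0
    have h1 := LinearMap.congr_fun (congrArg ModuleCat.Hom.hom hs0) (Submodule.Quotient.mk 1)
    refine hs (show s ∈ P from ?_)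
    rw [hx, Submodule.mem_colon_singleton, Submodule.mem_bot]
    have hφ1 : φ (Submodule.Quotient.mk 1) = x := one_smul R x
    change s • φ (Submodule.Quotient.mk 1) = 0 at h1
    rwa [hφ1] at h1

end Groth.Agent.GrBass.InjDimBass
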