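import Groth.Agent.GrBass.Main
import Groth.Agent.Depth.Basic

/-!
# Consequences: Bass numbers and depth at a prime versus its homogeneous core
-/

set_option autoImplicit false
set_option linter.unusedSectionVars false
universe u

open CategoryTheory DirectSum

noncomputable section

namespace Groth.Agent.GrBass

variable {ι : Type} [AddCommGroup ι] [DecidableEq ι] [Module.Free ℤ ι] [Module.Finite ℤ ι]
variable {R : Type u} [CommRing R] [IsNoetherianRing R] (𝒜 : ι → AddSubgroup R) [GradedRing 𝒜]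
variable (M : Type u) [AddCommGroup M] [Module R M] (ℳ : ι → AddSubgroup M) [DirectSum.Decomposition ℳ]
  [SetLike.GradedSMul 𝒜 ℳ]

include ℳ in
/-- Bass numbers at `p` are those at its core, shifted by `d = ht(p/p*)`. -/
theorem bassNum_shift (p : Ideal R) [p.IsPrime] [(Ideal.homogeneousCore 𝒜 p).toIdeal.IsPrime] (d : ℕ)
    (hd : (p.map (Ideal.Quotient.mk (Ideal.homogeneousCore 𝒜 p).toIdeal)).height = d) :
    (∀ i : ℕ, i < d → _root_.GrLC.bassNum p M i = 0) ∧
      ∀ j : ℕ, _root_.GrLC.bassNum p M (j + d) =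
        _root_.GrLC.bassNum (Ideal.homogeneousCore 𝒜 p).toIdeal M j := by
  have hhom := (Ideal.homogeneousCore 𝒜 p).isHomogeneous
  obtain ⟨κ, hκ⟩ := exists_bassNum_eq 𝒜 (Ideal.homogeneousCore 𝒜 p).toIdeal hhom M ℳ
  have hq : ∀ g, ∀ a ∈ 𝒜 g, a ∈ p → a ∈ (Ideal.homogeneousCore 𝒜 p).toIdeal := fun g a ha hap =>
    Ideal.mem_homogeneousCore_of_homogeneous_of_mem ⟨g, ha⟩ hap
  obtain ⟨h1, h2⟩ := hκ p (Ideal.toIdeal_homogeneousCore_le 𝒜 p) hq d hd
  obtain ⟨-, h3⟩ := hκ (Ideal.homogeneousCore 𝒜 p).toIdeal le_rfl (fun g a _ ha => ha) 0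
    (height_map_self 𝒜 (Ideal.homogeneousCore 𝒜 p).toIdeal hhom)
  exact ⟨h1, fun j => (h2 j).trans (h3 j).symm⟩

omit [Module.Free ℤ ι] [Module.Finite ℤ ι] in
theorem natCast_le_depth_iff [Module.Finite R M] (q : Ideal R) [q.IsPrime] (n : ℕ) :
    (n : ℕ∞) ≤ LocCoh.depth (Localization.AtPrime q) (LocalizedModule q.primeCompl M) ↔
      ∀ i < n, _root_.GrLC.bassNum q M i = 0 := by
  refine (Depth.le_idealDepth_iff_ext (R := Localization.AtPrime q)
    (I := IsLocalRing.maximalIdeal (Localization.AtPrime q)) (M := LocalizedModule q.primeCompl M) n).trans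
    (forall₂_congr fun i _ => ?_)
  exact Module.length_eq_zero_iff.symm

include ℳ in
/-- `depth M_p = depth M_{p*} + d`. -/
theorem depth_shift [Module.Finite R M] (p : Ideal R) [p.IsPrime]
    [(Ideal.homogeneousCore 𝒜 p).toIdeal.IsPrime] (d : ℕ)
    (hd : (p.map (Ideal.Quotient.mk (Ideal.homogeneousCore 𝒜 p).toIdeal)).height = d) :
    LocCoh.depth (Localization.AtPrime p) (LocalizedModule p.primeCompl M) =
      LocCoh.depth (Localization.AtPrime (Ideal.homogeneousCore 𝒜 p).toIdeal)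
        (LocalizedModule (Ideal.homogeneousCore 𝒜 p).toIdeal.primeCompl M) + d := by
  obtain ⟨h1, h2⟩ := bassNum_shift 𝒜 M ℳ p d hd
  have hp := natCast_le_depth_iff M p
  have hP := natCast_le_depth_iff M (Ideal.homogeneousCore 𝒜 p).toIdeal
  refine le_antisymm (ENat.forall_natCast_le_iff_le.mp fun n hn => ?_)
    (ENat.forall_natCast_le_iff_le.mp fun n hn => ?_)
  · by_cases hnd : n ≤ d
    · exact le_trans (by exact_mod_cast hnd) le_add_self
    obtain ⟨j, rfl⟩ : ∃ j, n = j + d := ⟨n - d, by omega⟩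
    push_cast
    refine add_le_add ((hP j).2 fun i hi => ?_) le_rfl
    rw [← h2 i]
    exact (hp _).1 hn (i + d) (by omega)
  · refine (hp n).2 fun i hi => ?_
    by_cases hid : i < d
    · exact h1 i hid
    obtain ⟨j, rfl⟩ : ∃ j, i = j + d := ⟨i - d, by omega⟩
    rw [h2 j]
    refine (hP (j + 1)).1 ?_ j (Nat.lt_succ_self j)
    have h3 : ((j + 1 : ℕ) : ℕ∞) + d ≤
        LocCoh.depth (Localization.AtPrime (Ideal.homogeneousCore 𝒜 p).toIdeal)
          (LocalizedModule (Ideal.homogeneousCore 𝒜 p).toIdeal.primeCompl M) + d := by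
      refine le_trans ?_ hn
      exact_mod_cast (show j + 1 + d ≤ n by omega)
    exact (WithTop.add_le_add_iff_right (ENat.coe_ne_top d)).mp h3

end Groth.Agent.GrBass
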